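import Groth.Agent.ConstrFib.Loci
import Mathlib.AlgebraicGeometry.Morphisms.QuasiFinite
import Mathlib.AlgebraicGeometry.ZariskisMainTheorem

/-! The non-quasi-finite locus of an lfp morphism is locally constructible; constructibility of the
locus of fibrewise locally quasi-finite morphisms. -/

set_option autoImplicit false

universe u

open CategoryTheory Limits AlgebraicGeometry Topology

namespace Groth.Agent.ConstrFib

variable {X Y : Scheme.{u}} (f : X ⟶ Y)

/-- Quasi-finite at `x` iff `x` is isolated in its fibre. -/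
theorem quasiFiniteAt_iff_isolated [LocallyOfFiniteType f] (x : X) :
    f.QuasiFiniteAt x ↔ ∃ U : Set X, IsOpen U ∧ U ∩ f ⁻¹' {f x} = {x} := by
  rw [Scheme.Hom.quasiFiniteAt_iff_isOpen_singleton_asFiber, ← (f.fiberHomeo (f x)).isOpen_image,
    Set.image_singleton]
  simp only [Scheme.Hom.asFiber, Homeomorph.apply_symm_apply]
  rw [isOpen_induced_iff]
  refine exists_congr fun U => and_congr_right fun _ => ?_
  rw [← Set.image_eq_image Subtype.val_injective, Subtype.image_preimage_coe, Set.image_singleton,
    Set.inter_comm]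

theorem quasiFiniteAt_iff_diagonal_isolated [LocallyOfFiniteType f] (x : X) :
    f.QuasiFiniteAt x ↔
      IsOpen (Subtype.val ⁻¹' Set.range (pullback.diagonal f) : Set ↥(pullback.fst f f ⁻¹' {x})) := by
  let d := pullback.diagonal f x
  have hd : pullback.fst f f d = x := by
    rw [← Scheme.Hom.comp_apply, pullback.diagonal_fst]; rfl
  have hd' : pullback.snd f f d = x := by
    rw [← Scheme.Hom.comp_apply, pullback.diagonal_snd]; rfl
  have hsingle : Set.range (pullback.diagonal f) ∩ pullback.fst f f ⁻¹' {x} = {d} := by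
    ext z
    constructor
    · rintro ⟨⟨w, rfl⟩, hw⟩
      have : w = x := by
        rw [Set.mem_preimage, Set.mem_singleton_iff, ← Scheme.Hom.comp_apply, pullback.diagonal_fst] at hw
        exact hw
      rw [this]; rfl
    · rintro rfl; exact ⟨⟨x, rfl⟩, hd⟩
  rw [isOpen_induced_iff]
  constructor
  · intro hx
    let V := f.quasiFiniteLocus
    have hV : LocallyQuasiFinite (V.ι ≫ f) := by
      rw [← Scheme.Hom.quasiFiniteLocus_eq_top_iff, Scheme.Hom.quasiFiniteLocus_comp,
        Scheme.Opens.ι_preimage_self]
    let j : pullback f (V.ι ≫ f) ⟶ pullback f f :=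
      pullback.map f (V.ι ≫ f) f f (𝟙 X) V.ι (𝟙 Y) (by simp) (by simp)
    have hj : IsOpenImmersion j := inferInstance
    let l : (V : Scheme.{u}) ⟶ pullback f (V.ι ≫ f) := pullback.lift V.ι (𝟙 _) (by simp)
    have hj1 : j ≫ pullback.fst f f = pullback.fst f (V.ι ≫ f) :=
      (pullback.lift_fst _ _ _).trans (Category.comp_id _)
    have hj2 : j ≫ pullback.snd f f = pullback.snd f (V.ι ≫ f) ≫ V.ι := pullback.lift_snd _ _ _
    have hl1 : l ≫ pullback.fst f (V.ι ≫ f) = V.ι := pullback.lift_fst _ _ _
    have hl2 : l ≫ pullback.snd f (V.ι ≫ f) = 𝟙 _ := pullback.lift_snd _ _ _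
    have hlj : l ≫ j = V.ι ≫ pullback.diagonal f := by
      apply pullback.hom_ext
      · rw [Category.assoc, hj1, hl1, Category.assoc, pullback.diagonal_fst, Category.comp_id]
      · rw [Category.assoc, hj2, ← Category.assoc, hl2, Category.id_comp, Category.assoc, pullback.diagonal_snd, Category.comp_id]
    let x' : (V : Scheme.{u}) := ⟨x, (hx : x ∈ V)⟩
    have hjd : j (l x') = d := by
      rw [← Scheme.Hom.comp_apply, hlj]; rfl
    have hq : (pullback.fst f f).QuasiFiniteAt d := by
      rw [← hjd, ← Scheme.Hom.quasiFiniteAt_comp_iff_of_isOpenImmersion (f := j)]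
      rw [hj1]
      exact Scheme.Hom.quasiFiniteAt _ _
    obtain ⟨U, hU, hUd⟩ := (quasiFiniteAt_iff_isolated (pullback.fst f f) d).1 hq
    refine ⟨U, hU, ?_⟩
    refine Subtype.val_injective.image_injective ?_
    rw [Subtype.image_preimage_coe, Subtype.image_preimage_coe, Set.inter_comm _ U,
      Set.inter_comm _ (Set.range _), hsingle, ← hd]
    exact hUd
  · rintro ⟨U, hU, hUeq⟩
    rw [← Set.image_eq_image Subtype.val_injective, Subtype.image_preimage_coe,
      Subtype.image_preimage_coe, Set.inter_comm _ U, Set.inter_comm _ (Set.range _), hsingle] at hUeq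
    rw [quasiFiniteAt_iff_isolated]
    by_contra hcon
    push Not at hcon
    have hxc : x ∈ fclosure f {y | y ≠ x} := by
      refine mem_closure_iff.2 fun O hO hxO => ?_
      obtain ⟨y, hy, hne⟩ : ∃ y ∈ O ∩ f ⁻¹' {f x}, y ≠ x := by
        by_contra! hall
        exact hcon O hO (Set.eq_singleton_iff_unique_mem.2 ⟨⟨hxO, rfl⟩, hall⟩)
      exact ⟨y, hy.1, hne, hy.2⟩
    have H : IsPullback (pullback.snd f f) (pullback.fst f f) f f := (IsPullback.of_hasPullback f f).flip
    have hmem : d ∈ fclosure (pullback.fst f f) (pullback.snd f f ⁻¹' {y | y ≠ x}) := by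
      rw [fclosure_preimage H, Set.mem_preimage, hd']; exact hxc
    have hdU : d ∈ U := (hUeq.ge rfl).1
    obtain ⟨z, hzU, hz, hzd⟩ := mem_closure_iff.1 hmem U hU hdU
    have hzd' : z = d := hUeq.le ⟨hzU, by rw [Set.mem_preimage, Set.mem_singleton_iff] at hzd ⊢; rw [hzd, hd]⟩
    exact hz (by rw [hzd', hd'])

theorem isLocallyConstructible_setOf_not_quasiFiniteAt [LocallyOfFinitePresentation f] [QuasiCompact f]
    [QuasiSeparated f] : IsLocallyConstructible {x | ¬ f.QuasiFiniteAt x} := by
  have : LocallyOfFinitePresentation (pullback.diagonal f) := by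
    have : LocallyOfFinitePresentation (pullback.diagonal f ≫ pullback.fst f f) := by
      rw [pullback.diagonal_fst]; infer_instance
    exact Groth.Agent.AlgSpc.lfp_of_comp _ (pullback.fst f f)
  have hc : IsLocallyConstructible (Set.range (pullback.diagonal f)) := by
    rw [← Set.image_univ]
    exact (pullback.diagonal f).isLocallyConstructible_image .univ
  convert! Groth.Agent.LimSch.isLocallyConstructible_compl
    (isLocallyConstructible_setOf_isOpen (pullback.fst f f) hc) using 1
  ext x
  simp only [Set.mem_ofPred_eq, Set.mem_compl_iff, quasiFiniteAt_iff_diagonal_isolated]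

theorem locallyQuasiFinite_baseChange_iff {X' Y' : Scheme.{u}} (i : Y' ⟶ Y)
    (i' : X' ⟶ X) (φ : X' ⟶ Y') (H : IsPullback i' φ f i) [IsPreimmersion i] [LocallyOfFiniteType f] :
    LocallyQuasiFinite φ ↔ ∀ x, f x ∈ Set.range i → f.QuasiFiniteAt x := by
  have : LocallyOfFiniteType φ := MorphismProperty.of_isPullback H inferInstance
  have : IsPreimmersion i' := MorphismProperty.of_isPullback H.flip inferInstance
  have he : IsEmbedding i' := IsPreimmersion.isEmbedding (f := i')
  rw [locallyQuasiFinite_iff_isDiscrete_preimage_singleton]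
  have himg : ∀ y', i' '' (φ ⁻¹' {y'}) = f ⁻¹' {i y'} := by
    intro y'
    ext x
    constructor
    · rintro ⟨w, rfl, rfl⟩; exact congr($(H.w) w)
    · intro hx
      obtain ⟨w, hw, hwy⟩ := Scheme.exists_preimage_of_isPullback H x y' hx
      exact ⟨w, hwy, hw⟩
  constructor
  · intro h x hx
    obtain ⟨y', hy'⟩ := hx
    rw [quasiFiniteAt_iff_isolated]
    have h2 := (h y').image he.isInducing
    rw [himg, hy'] at h2
    exact (isDiscrete_iff_forall_mem_exists_isOpen.1 h2) x rfl
  · intro h y'
    have h2 : _root_.IsDiscrete (f ⁻¹' {i y'}) := isDiscrete_iff_forall_mem_exists_isOpen.2 fun x hx => by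
      have h3 := (quasiFiniteAt_iff_isolated f x).1 (h x ⟨y', hx.symm⟩)
      rwa [show f x = i y' from hx] at h3
    have h4 := h2.preimage i'.continuous.continuousOn he.injective
    rwa [← himg, he.injective.preimage_image] at h4

theorem isLocallyConstructible_setOf_locallyQuasiFinite {S : Scheme.{u}} (g : Y ⟶ S)
    [LocallyOfFinitePresentation g] [QuasiCompact g] [QuasiSeparated g]
    [LocallyOfFinitePresentation (f ≫ g)] [QuasiCompact (f ≫ g)] [QuasiSeparated (f ≫ g)] :
    Topology.IsLocallyConstructible {s : S | LocallyQuasiFinite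
      (pullback.lift (pullback.fst (f ≫ g) (S.fromSpecResidueField s) ≫ f)
      (pullback.snd (f ≫ g) (S.fromSpecResidueField s)) ((Category.assoc _ _ _).trans pullback.condition) :
        pullback (f ≫ g) (S.fromSpecResidueField s) ⟶ pullback g (S.fromSpecResidueField s))} := by
  have : QuasiCompact f := QuasiCompact.of_comp f g
  have : QuasiSeparated f := QuasiSeparated.of_comp f g
  have : LocallyOfFinitePresentation f := Groth.Agent.AlgSpc.lfp_of_comp f g
  convert! Groth.Agent.LimSch.isLocallyConstructible_compl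
    ((f ≫ g).isLocallyConstructible_image (isLocallyConstructible_setOf_not_quasiFiniteAt f)) using 1
  ext s
  rw [Set.mem_ofPred_eq, locallyQuasiFinite_baseChange_iff f _ _ _ (isPullback_fibre f g _ _)]
  simp only [Scheme.Pullback.range_fst, Scheme.range_fromSpecResidueField, Set.mem_preimage,
    Set.mem_singleton_iff, Set.mem_compl_iff, Set.mem_image, Set.mem_ofPred_eq,
    not_exists, not_and, Scheme.Hom.comp_apply]
  refine forall_congr' fun x => ?_
  exact ⟨fun h hx hs => hx (h hs), fun h hs => by_contra fun hx => h hx hs⟩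

end Groth.Agent.ConstrFib
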