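import Groth.Agent.LimSch.DescendsImm
import Groth.Agent.LimSch.Constructible
import Groth.Agent.ConstrFib.QuasiFinite

/-! Descent along limits of: surjective, universally injective, monomorphism, locally quasi-finite. -/

set_option autoImplicit false

universe u

open CategoryTheory Limits AlgebraicGeometry Topology

namespace Groth.Agent.ConstrFib

open Groth.Agent.LimSch

theorem descends_surjective : Descends.{u} @Surjective @LocallyOfFinitePresentation := by
  intro I _ _ D c hc _ i _ X₀ f₀ _ _ h X q f hsq hf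
  have : LocallyOfFinitePresentation f₀ := h
  have hZ : IsLocallyConstructible (Set.range f₀)ᶜ := by
    refine Groth.Agent.LimSch.isLocallyConstructible_compl ?_
    rw [← Set.image_univ]
    exact f₀.isLocallyConstructible_image .univ
  obtain ⟨j, φ, hj⟩ := exists_stage_subset (D := D) (c := c) hc i hZ isCompact_univ isOpen_univ
    (V := ∅) isOpen_empty (by
      rintro p ⟨hp, -⟩
      obtain ⟨x, rfl⟩ := hf.surj p
      exact hp ⟨q x, congr($(hsq.w) x)⟩)
  refine ⟨j, φ, ⟨fun y => ?_⟩⟩
  have hy : y ∈ Set.range (pullback.snd f₀ (D.map φ)) := by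
    rw [Scheme.Pullback.range_snd]
    by_contra hn
    exact hj ⟨hn, Set.mem_univ _⟩
  exact hy

set_option backward.isDefEq.respectTransparency false in
theorem descends_universallyInjective : Descends.{u} @UniversallyInjective @LocallyOfFiniteType := by
  rw [universallyInjective_eq_diagonal]
  exact Descends.diagonal (P := @Surjective) (H := @LocallyOfFinitePresentation) @descends_surjective.{u} fun f hf => by
    have : LocallyOfFiniteType f := hf
    have : LocallyOfFinitePresentation (pullback.diagonal f ≫ pullback.fst f f) := by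
      rw [pullback.diagonal_fst]; infer_instance
    exact Groth.Agent.AlgSpc.lfp_of_comp (pullback.diagonal f) (pullback.fst f f)

set_option backward.isDefEq.respectTransparency false in
theorem descends_mono : Descends.{u} (MorphismProperty.monomorphisms Scheme.{u}) @LocallyOfFiniteType := by
  have heq : MorphismProperty.monomorphisms Scheme.{u} =
      (MorphismProperty.isomorphisms Scheme.{u}).diagonal := by
    ext X Y f
    simp only [MorphismProperty.monomorphisms.iff, MorphismProperty.diagonal_iff,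
      MorphismProperty.isomorphisms.iff]
    exact (pullback.isIso_diagonal_iff f).symm
  rw [heq]
  have hΔ : ∀ {X Y : Scheme.{u}} (f : X ⟶ Y), LocallyOfFiniteType f →
      LocallyOfFinitePresentation (pullback.diagonal f) := fun f hf => by
    have : LocallyOfFiniteType f := hf
    have : LocallyOfFinitePresentation (pullback.diagonal f ≫ pullback.fst f f) := by
      rw [pullback.diagonal_fst]; infer_instance
    exact Groth.Agent.AlgSpc.lfp_of_comp (pullback.diagonal f) (pullback.fst f f)
  have h1 : Descends.{u} (MorphismProperty.isomorphisms Scheme.{u}) @LocallyOfFinitePresentation :=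
    descends_isomorphisms
  intro I _ _ D c hc _ i _ X₀ f₀ _ _ h X q f hsq hf
  exact Descends.diagonal (P := MorphismProperty.isomorphisms Scheme.{u}) (H := @LocallyOfFinitePresentation) h1 hΔ D c hc i f₀ h q f hsq hf

/-- Quasi-finiteness at a point descends along any base change. -/
theorem quasiFiniteAt_of_isPullback {X S X₀ S₀ : Scheme.{u}} {q : X ⟶ X₀} {f : X ⟶ S} {f₀ : X₀ ⟶ S₀}
    {b : S ⟶ S₀} (H : IsPullback q f f₀ b) [LocallyOfFiniteType f₀] (x : X) (hx : f.QuasiFiniteAt x) :
    f₀.QuasiFiniteAt (q x) := by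
  have : LocallyOfFiniteType f := MorphismProperty.of_isPullback H inferInstance
  obtain ⟨U, hU, hUx⟩ := (quasiFiniteAt_iff_isolated f x).1 hx
  rw [quasiFiniteAt_iff_isolated]
  by_contra hcon
  push Not at hcon
  have hmem : q x ∈ fclosure f₀ {y | y ≠ q x} := by
    refine mem_closure_iff.2 fun O hO hxO => ?_
    obtain ⟨y, hy, hne⟩ : ∃ y ∈ O ∩ f₀ ⁻¹' {f₀ (q x)}, y ≠ q x := by
      by_contra! hall
      exact hcon O hO (Set.eq_singleton_iff_unique_mem.2 ⟨⟨hxO, rfl⟩, hall⟩)
    exact ⟨y, hy.1, hne, hy.2⟩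
  have hmem' : x ∈ fclosure f (q ⁻¹' {y | y ≠ q x}) := by
    rw [fclosure_preimage H]; exact hmem
  have hxU : x ∈ U := (hUx.ge rfl).1
  obtain ⟨z, hzU, hz, hzx⟩ := mem_closure_iff.1 hmem' U hU hxU
  exact hz (congrArg q (hUx.le ⟨hzU, hzx⟩))

theorem descends_locallyQuasiFinite :
    Descends.{u} @LocallyQuasiFinite @LocallyOfFinitePresentation := by
  intro I _ _ D c hc _ i _ X₀ f₀ _ _ h X q f hsq hf
  have : LocallyOfFinitePresentation f₀ := h
  have : CompactSpace X₀ := QuasiCompact.compactSpace_of_compactSpace f₀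
  have hp : ∀ x, f₀.QuasiFiniteAt (q x) := fun x =>
    quasiFiniteAt_of_isPullback hsq x (Scheme.Hom.quasiFiniteAt f x)
  let V := f₀.quasiFiniteLocus
  let o : Over i := Over.mk (𝟙 i)
  have : IsIso (pullback.snd (D.map o.hom) f₀) := by
    have : IsIso (D.map o.hom) := by dsimp [o]; infer_instance
    infer_instance
  have : CompactSpace ((bcDiag D i f₀).obj o) :=
    (Scheme.homeoOfIso (asIso (pullback.snd (D.map o.hom) f₀))).symm.compactSpace
  have hsq' : (bcCone D c i f₀ f q hsq.flip).π.app o ≫ (bcSnd D i f₀).app o = q :=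
    pullback.lift_snd _ _ _
  have hZ : IsLocallyConstructible
      (⇑((bcSnd D i f₀).app o) ⁻¹' {x | ¬ f₀.QuasiFiniteAt x}) :=
    Groth.Agent.LimSch.isLocallyConstructible_preimage _ (isLocallyConstructible_setOf_not_quasiFiniteAt f₀)
  obtain ⟨l, e, he⟩ := exists_stage_subset (D := bcDiag D i f₀)
    (c := bcCone D c i f₀ f q hsq.flip) (isLimitBcCone D c i f₀ hc f q hsq.flip) o hZ
    isCompact_univ isOpen_univ (V := ∅) isOpen_empty (by
      rintro x ⟨hx, -⟩
      refine hx ?_
      have := hp x
      rw [← hsq'] at this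
      exact this)
  refine ⟨l.left, l.hom, ?_⟩
  have hall : ∀ z, f₀.QuasiFiniteAt (pullback.fst f₀ (D.map l.hom) z) := by
    intro z
    by_contra hn
    refine he (a := (pullbackSymmetry f₀ (D.map l.hom)).hom z) ⟨?_, Set.mem_univ _⟩
    have h2 : ((bcDiag D i f₀).map e) ≫ (bcSnd D i f₀).app o = pullback.snd _ _ := pullback.lift_snd _ _ _
    show ¬ f₀.QuasiFiniteAt (((bcDiag D i f₀).map e ≫ (bcSnd D i f₀).app o) ((pullbackSymmetry f₀ (D.map l.hom)).hom z))
    rw [h2]
    have h3 := congr($(pullbackSymmetry_hom_comp_snd f₀ (D.map l.hom)) z)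
    intro hq
    exact hn (h3 ▸ hq)
  have hV : LocallyQuasiFinite (V.ι ≫ f₀) := by
    rw [← Scheme.Hom.quasiFiniteLocus_eq_top_iff, Scheme.Hom.quasiFiniteLocus_comp,
      Scheme.Opens.ι_preimage_self]
  let a : pullback f₀ (D.map l.hom) ⟶ (V : Scheme.{u}) :=
    IsOpenImmersion.lift V.ι (pullback.fst f₀ (D.map l.hom)) (by
      rintro _ ⟨z, rfl⟩
      rw [Scheme.Opens.range_ι]
      exact hall z)
  have ha : a ≫ V.ι = pullback.fst f₀ (D.map l.hom) := IsOpenImmersion.lift_fac _ _ _
  have hsq2 : IsPullback a (𝟙 _) V.ι (pullback.fst f₀ (D.map l.hom)) :=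
    IsPullback.of_vert_isIso_mono ⟨by rw [ha, Category.id_comp]⟩
  have hp' := hsq2.paste_vert (IsPullback.of_hasPullback f₀ (D.map l.hom))
  rw [Category.id_comp] at hp'
  exact MorphismProperty.of_isPullback hp' hV

end Groth.Agent.ConstrFib
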