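import Mathlib.RingTheory.Spectrum.Prime.Chevalley
import Mathlib.RingTheory.Ideal.MinimalPrime.Basic
import Mathlib.RingTheory.Ideal.MinimalPrime.Noetherian
import Mathlib.RingTheory.Ideal.Operations
import Mathlib.RingTheory.TensorProduct.MvPolynomial
import Mathlib.Algebra.Category.Ring.Constructions
import Mathlib.AlgebraicGeometry.Morphisms.FinitePresentation
import Mathlib.AlgebraicGeometry.Morphisms.UniversallyOpen
import Mathlib.AlgebraicGeometry.PullbackCarrier
import Mathlib.Topology.LocallyClosed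
import Groth.Agent.GenFlat.Basic
import Groth.Agent.LimSch.Constructible
import Groth.Agent.ConstrSets.Basic
import Groth.Agent.Unram.Pointwise

/-!
For a morphism `f` locally of finite presentation and a locally constructible set `Z` of the source,
the union `fclosure f Z` of the closures of `Z` inside the fibres is locally constructible.
-/

set_option autoImplicit false

universe u

open TensorProduct PrimeSpectrum Topology

namespace Groth.Agent.ConstrFib

/-- The union over all fibres of `f` of the closure of the trace of `Z` on the fibre. -/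
def fclosure {X S : Type*} [TopologicalSpace X] (f : X → S) (Z : Set X) : Set X :=
  {x | x ∈ closure (Z ∩ f ⁻¹' {f x})}

theorem exists_specializes_of_mem_closure {R : Type u} [CommRing R] {s : Set (PrimeSpectrum R)}
    (hs : IsConstructible s) {x : PrimeSpectrum R} (hx : x ∈ closure s) : ∃ z ∈ s, z ⤳ x := by
  obtain ⟨S, _, g, rfl⟩ := exists_range_eq_of_isConstructible hs
  rw [closure_range_comap, mem_zeroLocus, SetLike.coe_subset_coe] at hx
  obtain ⟨P, hP, hPx⟩ := Ideal.exists_minimalPrimes_le hx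
  have hP' : P ∈ ((⊥ : Ideal S).comap g).minimalPrimes := hP
  obtain ⟨Q, hQ, -, rfl⟩ := Ideal.exists_comap_eq_of_mem_minimalPrimes g P hP'
  exact ⟨comap g ⟨Q, hQ⟩, ⟨_, rfl⟩, (le_iff_specializes _ _).1 hPx⟩

/-- If multiplication by `h` is injective on `K ⊗ B'` (`K` a field) and `c` does not vanish at some
point of the fibre, then neither does `h * c` at some (other) point of the fibre. -/
theorem exists_prime_mul_notMem {A' B' : Type u} [CommRing A'] [CommRing B'] [Algebra A' B']
    (h c : B') (K L : Type u) [Field K] [Algebra A' K] [Field L] [Algebra A' L]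
    (fK : K →ₐ[A'] L) (fB : B' →ₐ[A'] L) (hc : fB c ≠ 0)
    (hinj : Function.Injective ((LinearMap.mulLeft A' h).lTensor K)) :
    ∃ P : Ideal B', P.IsPrime ∧ h * c ∉ P ∧
      P.comap (algebraMap A' B') = RingHom.ker (algebraMap A' K) := by
  have hμy : ∀ y : K ⊗[A'] B',
      (LinearMap.mulLeft A' h).lTensor K y = ((1 : K) ⊗ₜ[A'] h) * y := by
    intro y
    induction y using TensorProduct.induction_on with
    | zero => simp
    | tmul k b => simp
    | add y z hy hz => rw [map_add, hy, hz, mul_add]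
  have hpow : ∀ (k : ℕ) (y : K ⊗[A'] B'), ((1 : K) ⊗ₜ[A'] h) ^ k * y = 0 → y = 0 := by
    intro k
    induction k with
    | zero => simp
    | succ k ih =>
      intro y hy
      refine hinj ?_
      rw [map_zero, hμy]
      refine ih _ ?_
      rw [← mul_assoc, ← pow_succ, hy]
  have hnil : ¬ IsNilpotent ((1 : K) ⊗ₜ[A'] (h * c)) := by
    rintro ⟨m, hm⟩
    have h1 : ((1 : K) ⊗ₜ[A'] c) ^ m = 0 := by
      refine hpow m _ ?_
      rw [← mul_pow, Algebra.TensorProduct.tmul_mul_tmul, one_mul]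
      exact hm
    have h2 : IsNilpotent (Algebra.TensorProduct.productMap fK fB ((1 : K) ⊗ₜ[A'] c)) :=
      IsNilpotent.map (f := Algebra.TensorProduct.productMap fK fB) ⟨m, h1⟩
    rw [Algebra.TensorProduct.productMap_apply_tmul, map_one, one_mul, isNilpotent_iff_eq_zero] at h2
    exact hc h2
  obtain ⟨P, hP, hhcP⟩ : ∃ P : Ideal (K ⊗[A'] B'), P.IsPrime ∧ (1 : K) ⊗ₜ[A'] (h * c) ∉ P := by
    by_contra! hcon
    exact hnil (mem_nilradical.1 (by
      rw [nilradical_eq_sInf]; exact Ideal.mem_sInf.2 fun {P} hP => hcon P hP))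
  refine ⟨P.comap (Algebra.TensorProduct.includeRight : B' →ₐ[A'] K ⊗[A'] B'), inferInstance,
    fun hm => hhcP hm, Ideal.ext fun r => ?_⟩
  rw [Ideal.mem_comap, Ideal.mem_comap, AlgHom.commutes, RingHom.mem_ker,
    IsScalarTower.algebraMap_apply A' K (K ⊗[A'] B')]
  refine ⟨fun hr => ?_, fun hr => by rw [hr, map_zero]; exact P.zero_mem⟩
  by_contra h0
  exact hP.ne_top (Ideal.eq_top_of_isUnit_mem _ hr ((isUnit_iff_ne_zero.2 h0).map _))

section Noeth

variable {R : Type u} [CommRing R] [IsNoetherianRing R] {B : Type u} [CommRing B] [Algebra R B]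
  [Algebra.FiniteType R B]

/-- Over a non-empty open subset of an irreducible closed `V(q)`, closures in fibres are traces
of the global closure. -/
theorem exists_notMem_closure_inter_fibre (q : Ideal R) [hq : q.IsPrime] (Z : Set (PrimeSpectrum B))
    (hZ : IsConstructible Z) (hZq : ∀ z ∈ Z, q ≤ (comap (algebraMap R B) z).asIdeal) :
    ∃ a ∉ q, ∀ x ∈ closure Z, a ∉ (comap (algebraMap R B) x).asIdeal →
      x ∈ fclosure (comap (algebraMap R B)) Z := by
  classical
  let I : Ideal B := vanishingIdeal Z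
  have hC : zeroLocus (I : Set B) = closure Z := zeroLocus_vanishingIdeal_eq_closure Z
  have hB : IsNoetherianRing B := Algebra.FiniteType.isNoetherianRing R B
  let J : Ideal B := vanishingIdeal (zeroLocus (I : Set B) \ Z)
  have hW : IsConstructible (zeroLocus (I : Set B) \ Z) :=
    (Groth.Agent.ConstrSets.isConstructible_of_isClosed (isClosed_zeroLocus _)).sdiff hZ
  have hJ : ∀ P ∈ I.minimalPrimes, ¬ J ≤ P := by
    intro P hP hJP
    have hPI : (⟨P, hP.1.1⟩ : PrimeSpectrum B) ∈ zeroLocus (I : Set B) := hP.1.2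
    have key : ∀ z ∈ zeroLocus (I : Set B), z ⤳ (⟨P, hP.1.1⟩ : PrimeSpectrum B) →
        z = ⟨P, hP.1.1⟩ := fun z hz hzP =>
      PrimeSpectrum.ext (le_antisymm ((le_iff_specializes _ _).2 hzP)
        (hP.2 ⟨z.2, hz⟩ ((le_iff_specializes _ _).2 hzP)))
    have hmem : (⟨P, hP.1.1⟩ : PrimeSpectrum B) ∈ closure (zeroLocus (I : Set B) \ Z) := by
      rw [← zeroLocus_vanishingIdeal_eq_closure]; exact hJP
    obtain ⟨z, ⟨hzI, hzZ⟩, hz⟩ := exists_specializes_of_mem_closure hW hmem
    rw [key z hzI hz] at hzZ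
    obtain ⟨z', hz'Z, hz'⟩ := exists_specializes_of_mem_closure hZ (hC ▸ hPI)
    rw [key z' (hC.ge (subset_closure hz'Z)) hz'] at hz'Z
    exact hzZ hz'Z
  have hfin : I.minimalPrimes.Finite := Ideal.finite_minimalPrimes_of_isNoetherianRing B I
  obtain ⟨h, hhJ, hh⟩ : ∃ h ∈ J, ∀ P ∈ I.minimalPrimes, h ∉ P := by
    by_contra! hcon
    have hsub : (J : Set B) ⊆ ⋃ P ∈ (hfin.toFinset : Set (Ideal B)), (P : Set B) := by
      intro y hy
      obtain ⟨P, hP, hyP⟩ := hcon y hy
      simp only [Set.Finite.coe_toFinset, Set.mem_iUnion, SetLike.mem_coe, exists_prop]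
      exact ⟨P, hP, hyP⟩
    obtain ⟨P, hP, hJP⟩ := (Ideal.subset_union_prime (f := id) ⊤ ⊤ (fun P hP _ _ =>
      (hfin.mem_toFinset.1 hP).1.1)).1 hsub
    exact hJ P (hfin.mem_toFinset.1 hP) hJP
  have hhW : ∀ z ∈ zeroLocus (I : Set B), h ∉ z.asIdeal → z ∈ Z := fun z hz hhz => by
    by_contra hzZ
    exact hhz ((mem_vanishingIdeal _ _).1 hhJ z ⟨hz, hzZ⟩)
  have hqI : ∀ r ∈ q, algebraMap R B r ∈ I := fun r hr =>
    (mem_vanishingIdeal _ _).2 fun z hz => hZq z hz hr
  let fA : R ⧸ q →+* B ⧸ I :=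
    Ideal.Quotient.lift q ((Ideal.Quotient.mk I).comp (algebraMap R B))
      (fun r hr => Ideal.Quotient.eq_zero_iff_mem.2 (hqI r hr))
  algebraize [fA]
  have : IsScalarTower R (R ⧸ q) (B ⧸ I) := IsScalarTower.of_algebraMap_eq fun r => rfl
  have : Algebra.FiniteType (R ⧸ q) (B ⧸ I) :=
    Algebra.FiniteType.of_restrictScalars_finiteType R (R ⧸ q) (B ⧸ I)
  let hbar : B ⧸ I := Ideal.Quotient.mk I h
  let μ : B ⧸ I →ₗ[R ⧸ q] B ⧸ I := LinearMap.mulLeft (R ⧸ q) hbar
  have hμ : Function.Injective μ := by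
    rw [injective_iff_map_eq_zero]
    intro b hb
    obtain ⟨b, rfl⟩ := Ideal.Quotient.mk_surjective b
    rw [LinearMap.mulLeft_apply, ← map_mul, Ideal.Quotient.eq_zero_iff_mem] at hb
    rw [Ideal.Quotient.eq_zero_iff_mem]
    refine (mem_vanishingIdeal _ _).2 fun z hz => ?_
    obtain ⟨P, hP, hPz⟩ := Ideal.exists_minimalPrimes_le (I := I) (J := z.asIdeal) (hC.ge (subset_closure hz))
    exact hPz ((hP.1.1.mem_or_mem (hP.1.2 hb)).resolve_left (hh P hP))
  obtain ⟨a', ha', hflat⟩ := Groth.Agent.GenFlat.exists_gFlat (A := R ⧸ q) (B ⧸ I)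
    ((B ⧸ I) ⧸ Ideal.span {hbar})
  obtain ⟨a, rfl⟩ := Ideal.Quotient.mk_surjective a'
  refine ⟨a, fun hmem => ha' (Ideal.Quotient.eq_zero_iff_mem.2 hmem), fun x hx hax => ?_⟩
  rw [← hC] at hx
  let x' : Ideal (B ⧸ I) := x.asIdeal.map (Ideal.Quotient.mk I)
  have hx' : x'.IsPrime := Ideal.map_isPrime_of_surjective Ideal.Quotient.mk_surjective
    (by rw [Ideal.mk_ker]; exact hx)
  have hxc : x'.comap (Ideal.Quotient.mk I) = x.asIdeal := by
    rw [Ideal.comap_map_of_surjective _ Ideal.Quotient.mk_surjective, ← RingHom.ker_eq_comap_bot,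
      Ideal.mk_ker, sup_eq_left]
    exact hx
  let p : Ideal (R ⧸ q) := x'.comap (algebraMap (R ⧸ q) (B ⧸ I))
  have hp : ∀ r, Ideal.Quotient.mk q r ∈ p ↔ r ∈ (comap (algebraMap R B) x).asIdeal := fun r => by
    change algebraMap (R ⧸ q) (B ⧸ I) (Ideal.Quotient.mk q r) ∈ x' ↔ algebraMap R B r ∈ x.asIdeal
    rw [← hxc, Ideal.mem_comap]
    rfl
  let K := p.ResidueField
  have haK : algebraMap (R ⧸ q) K (Ideal.Quotient.mk q a) ≠ 0 := by
    rw [ne_eq, Ideal.algebraMap_residueField_eq_zero, hp]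
    exact hax
  have hinj : Function.Injective (μ.lTensor K) := by
    refine hflat.lTensor_injective ((Ideal.span {hbar}).restrictScalars (R ⧸ q)).mkQ hμ
      (Submodule.mkQ_surjective _) ?_ K ?_
    · intro b
      rw [Submodule.mkQ_apply, Submodule.Quotient.mk_eq_zero, Submodule.restrictScalars_mem,
        Ideal.mem_span_singleton]
      exact ⟨fun ⟨c, hc⟩ => ⟨c, hc.symm⟩, fun ⟨c, hc⟩ => ⟨c, hc.symm⟩⟩
    · intro k hk
      rw [← algebraMap_smul K (Ideal.Quotient.mk q a) k] at hk
      exact (smul_eq_zero.1 hk).resolve_left haK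
  refine mem_closure_iff.2 fun O hO hxO => ?_
  obtain ⟨_, ⟨c, rfl⟩, hxc', hcO⟩ :=
    isTopologicalBasis_basic_opens.exists_subset_of_mem_open hxO hO
  have hcL : IsScalarTower.toAlgHom (R ⧸ q) (B ⧸ I) x'.ResidueField (Ideal.Quotient.mk I c) ≠ 0 := by
    rw [IsScalarTower.toAlgHom_apply, ne_eq, Ideal.algebraMap_residueField_eq_zero]
    exact fun h1 => hxc' (show c ∈ x.asIdeal by rw [← hxc]; exact h1)
  obtain ⟨P, hP, hhcP, hPp⟩ := exists_prime_mul_notMem hbar (Ideal.Quotient.mk I c) K x'.ResidueField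
    (Ideal.ResidueField.mapₐ p x' (Algebra.ofId (R ⧸ q) (B ⧸ I)) rfl)
    (IsScalarTower.toAlgHom (R ⧸ q) (B ⧸ I) x'.ResidueField) hcL hinj
  let z : PrimeSpectrum B := ⟨P.comap (Ideal.Quotient.mk I), inferInstance⟩
  have hz : h * c ∉ z.asIdeal := fun hm => hhcP (by rw [← map_mul]; exact hm)
  have hzI : z ∈ zeroLocus (I : Set B) := fun i hi => by
    change Ideal.Quotient.mk I i ∈ P
    rw [Ideal.Quotient.eq_zero_iff_mem.2 hi]; exact P.zero_mem
  refine ⟨z, hcO (fun hcz => hz (z.asIdeal.mul_mem_left h hcz)),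
    hhW z hzI (fun hhz => hz (z.asIdeal.mul_mem_right c hhz)), ?_⟩
  refine PrimeSpectrum.ext (Ideal.ext fun r => ?_)
  change algebraMap (R ⧸ q) (B ⧸ I) (Ideal.Quotient.mk q r) ∈ P ↔ _
  rw [← Ideal.mem_comap, hPp, RingHom.mem_ker, Ideal.algebraMap_residueField_eq_zero, hp]

theorem isConstructible_fclosure_noetherian {Z : Set (PrimeSpectrum B)} (hZ : IsConstructible Z) :
    IsConstructible (fclosure (comap (algebraMap R B)) Z) := by
  have hB : IsNoetherianRing B := Algebra.FiniteType.isNoetherianRing R B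
  set π := comap (algebraMap R B)
  suffices ∀ C : TopologicalSpace.Closeds (PrimeSpectrum R),
      IsConstructible (fclosure π Z ∩ π ⁻¹' (C : Set (PrimeSpectrum R))) by simpa using this ⊤
  intro C
  induction C using WellFoundedLT.induction with
  | ind C ih =>
  have hπ : Continuous π := continuous_comap _
  by_cases hC : IsIrreducible (C : Set (PrimeSpectrum R))
  · obtain ⟨η, hη⟩ := _root_.QuasiSober.sober hC C.isClosed
    let Z' := Z ∩ π ⁻¹' (C : Set (PrimeSpectrum R))
    have hCη : ∀ y, y ∈ (C : Set (PrimeSpectrum R)) ↔ η.asIdeal ≤ y.asIdeal := fun y => by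
      rw [← hη.def, ← specializes_iff_mem_closure, ← le_iff_specializes]; rfl
    obtain ⟨a, ha, hfib⟩ := exists_notMem_closure_inter_fibre η.asIdeal Z'
      (hZ.inter (Groth.Agent.ConstrSets.isConstructible_of_isClosed (C.isClosed.preimage hπ)))
      (fun z hz => (hCη _).1 hz.2)
    let C' : TopologicalSpace.Closeds (PrimeSpectrum R) :=
      ⟨(C : Set (PrimeSpectrum R)) ∩ zeroLocus {a}, C.isClosed.inter (isClosed_zeroLocus _)⟩
    have hlt : C' < C := by
      refine lt_of_le_of_ne (fun y hy => hy.1) fun heq => ha ?_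
      have hmem : η ∈ (C' : Set (PrimeSpectrum R)) := by rw [heq]; exact (hCη η).2 le_rfl
      exact hmem.2 rfl
    have key : fclosure π Z ∩ π ⁻¹' ((C : Set (PrimeSpectrum R)) ∩ (zeroLocus {a})ᶜ) =
        closure Z' ∩ π ⁻¹' ((C : Set (PrimeSpectrum R)) ∩ (zeroLocus {a})ᶜ) := by
      ext x
      refine and_congr_left fun hx => ⟨fun h => closure_mono ?_ h, fun h => ?_⟩
      · rintro z ⟨hz, hzx⟩
        exact ⟨hz, by rw [Set.mem_preimage, show π z = π x from hzx]; exact hx.1⟩
      · refine closure_mono ?_ (hfib x h (fun hmem => hx.2 (by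
          intro r hr; rw [Set.mem_singleton_iff] at hr; subst hr; exact hmem)))
        exact Set.inter_subset_inter_left _ Set.inter_subset_left
    have hsplit : fclosure π Z ∩ π ⁻¹' (C : Set (PrimeSpectrum R)) =
        (closure Z' ∩ π ⁻¹' ((C : Set (PrimeSpectrum R)) ∩ (zeroLocus {a})ᶜ)) ∪
          (fclosure π Z ∩ π ⁻¹' (C' : Set (PrimeSpectrum R))) := by
      rw [← key]
      ext x
      simp only [C', TopologicalSpace.Closeds.coe_mk, Set.mem_union, Set.mem_inter_iff, Set.mem_preimage,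
        Set.mem_compl_iff]
      tauto
    rw [hsplit]
    exact ((Groth.Agent.ConstrSets.isConstructible_of_isClosed isClosed_closure).inter
      ((Groth.Agent.ConstrSets.isConstructible_of_isLocallyClosed
        ((C.isClosed.isLocallyClosed.inter (isClosed_zeroLocus _).isOpen_compl.isLocallyClosed).preimage hπ)))).union (ih C' hlt)
  · rcases Set.eq_empty_or_nonempty (C : Set (PrimeSpectrum R)) with h0 | h0
    · rw [h0, Set.preimage_empty, Set.inter_empty]; exact .empty
    obtain ⟨z₁, z₂, h1, h2, hsub, hn1, hn2⟩ : ∃ z₁ z₂, IsClosed z₁ ∧ IsClosed z₂ ∧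
        (C : Set (PrimeSpectrum R)) ⊆ z₁ ∪ z₂ ∧ ¬ (C : Set (PrimeSpectrum R)) ⊆ z₁ ∧
        ¬ (C : Set (PrimeSpectrum R)) ⊆ z₂ := by
      by_contra! hcon
      exact hC ⟨h0, isPreirreducible_iff_isClosed_union_isClosed.2 fun z₁ z₂ h1 h2 hsub =>
        or_iff_not_imp_left.2 fun hn => by_contra fun hn2 => hn2 (hcon z₁ z₂ h1 h2 hsub hn)⟩
    let C₁ : TopologicalSpace.Closeds (PrimeSpectrum R) := ⟨(C : Set _) ∩ z₁, C.isClosed.inter h1⟩
    let C₂ : TopologicalSpace.Closeds (PrimeSpectrum R) := ⟨(C : Set _) ∩ z₂, C.isClosed.inter h2⟩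
    have hlt₁ : C₁ < C := lt_of_le_of_ne (fun y hy => hy.1) fun heq =>
      hn1 fun y hy => (heq.ge hy).2
    have hlt₂ : C₂ < C := lt_of_le_of_ne (fun y hy => hy.1) fun heq =>
      hn2 fun y hy => (heq.ge hy).2
    have hsplit : (C : Set (PrimeSpectrum R)) = (C₁ : Set _) ∪ (C₂ : Set _) := by
      simp [C₁, C₂, ← Set.inter_union_distrib_left, Set.inter_eq_left.2 hsub]
    rw [hsplit, Set.preimage_union, Set.inter_union_distrib_left]
    exact (ih C₁ hlt₁).union (ih C₂ hlt₂)

end Noeth

section BaseChange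

open CategoryTheory Limits AlgebraicGeometry

/-- Closures in fibres commute with arbitrary base change. -/
theorem fclosure_preimage {X S X₀ S₀ : Scheme.{u}} {ψ : X ⟶ X₀} {f : X ⟶ S} {f₀ : X₀ ⟶ S₀}
    {φ : S ⟶ S₀} (H : IsPullback ψ f f₀ φ) (Z₀ : Set X₀) :
    fclosure f (ψ ⁻¹' Z₀) = ψ ⁻¹' fclosure f₀ Z₀ := by
  ext x
  have hw : ∀ y, f₀ (ψ y) = φ (f y) := fun y => congr($(H.w) y)
  constructor
  · intro hx
    refine closure_mono ?_ (image_closure_subset_closure_image ψ.continuous ⟨x, hx, rfl⟩)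
    rintro _ ⟨z, ⟨hz, hzx⟩, rfl⟩
    exact ⟨hz, by rw [Set.mem_preimage, Set.mem_singleton_iff, hw, hw, show f z = f x from hzx]⟩
  · intro hx
    change x ∈ closure _
    refine mem_closure_iff.2 fun U hU hxU => ?_
    let s := f x
    let a := pullback.fst f (S.fromSpecResidueField s)
    let a₀ := pullback.fst f₀ (S₀.fromSpecResidueField (φ s))
    let κ := Spec.map (φ.residueFieldMap s)
    have hκ : κ ≫ S₀.fromSpecResidueField (φ s) = S.fromSpecResidueField s ≫ φ :=
      Scheme.Hom.SpecMap_residueFieldMap_fromSpecResidueField φ s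
    let π : pullback f (S.fromSpecResidueField s) ⟶ pullback f₀ (S₀.fromSpecResidueField (φ s)) :=
      pullback.lift (a ≫ ψ) (pullback.snd _ _ ≫ κ) (by
        rw [Category.assoc, H.w, ← Category.assoc, pullback.condition, Category.assoc, Category.assoc, hκ])
    have hπ₁ : π ≫ a₀ = a ≫ ψ := pullback.lift_fst _ _ _
    have hπ : IsPullback π (pullback.snd _ _) (pullback.snd f₀ _) κ := by
      refine IsPullback.of_right ?_ (pullback.lift_snd _ _ _) (IsPullback.of_hasPullback f₀ _)
      rw [hπ₁, hκ]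
      exact (IsPullback.of_hasPullback f (S.fromSpecResidueField s)).paste_horiz H
    have : IrreducibleSpace (Spec (S₀.residueField (φ s))) := inferInstance
    have : UniversallyOpen κ := inferInstance
    have hπopen : IsOpenMap π := by
      have : UniversallyOpen π := MorphismProperty.of_isPullback hπ.flip inferInstance
      exact π.isOpenMap
    obtain ⟨x', hx'⟩ : x ∈ Set.range a := by
      rw [Scheme.Pullback.range_fst, Scheme.range_fromSpecResidueField]; rfl
    have hemb₀ : Topology.IsEmbedding a₀ := IsPreimmersion.isEmbedding (f := a₀)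
    obtain ⟨O, hO, hOeq⟩ := hemb₀.isInducing.isOpen_iff.1 (hπopen _ (hU.preimage a.continuous))
    have hψx : a₀ (π x') = ψ x := by
      rw [← Scheme.Hom.comp_apply, hπ₁, Scheme.Hom.comp_apply, hx']
    have hxO : ψ x ∈ O := by
      rw [← hψx]
      exact hOeq.ge ⟨x', show a x' ∈ U from hx'.symm ▸ hxU, rfl⟩
    obtain ⟨z₀, hz₀O, hz₀, hz₀x⟩ := mem_closure_iff.1 hx O hO hxO
    obtain ⟨w₀, rfl⟩ : z₀ ∈ Set.range a₀ := by
      rw [Scheme.Pullback.range_fst, Scheme.range_fromSpecResidueField, Set.mem_preimage,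
        Set.mem_singleton_iff, show f₀ z₀ = f₀ (ψ x) from hz₀x, hw]
    obtain ⟨w, hwU, rfl⟩ := hOeq.le hz₀O
    refine ⟨a w, hwU, ?_, ?_⟩
    · rw [Set.mem_preimage, ← Scheme.Hom.comp_apply, ← hπ₁, Scheme.Hom.comp_apply]; exact hz₀
    · have hmem : a w ∈ f ⁻¹' {s} := by
        rw [← Scheme.range_fromSpecResidueField, ← Scheme.Pullback.range_fst]; exact ⟨w, rfl⟩
      exact hmem

end BaseChange

open CategoryTheory in
theorem isConstructible_comap_preimage {A B : Type u} [CommRing A] [CommRing B] (φ : A →+* B)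
    {Z : Set (PrimeSpectrum A)} (hZ : IsConstructible Z) : IsConstructible (comap φ ⁻¹' Z) := by
  obtain ⟨S, rfl⟩ := exists_constructibleSetData_iff.2 hZ
  rw [← ConstructibleSetData.toSet_map]
  exact ConstructibleSetData.isConstructible_toSet _

attribute [local instance] MvPolynomial.algebraMvPolynomial in
open CategoryTheory AlgebraicGeometry in
theorem isConstructible_fclosure_mvPolynomial (A : Type u) [CommRing A] (n : ℕ)
    {Z : Set (PrimeSpectrum (MvPolynomial (Fin n) A))} (hZ : IsConstructible Z) :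
    IsConstructible (fclosure (comap (algebraMap A (MvPolynomial (Fin n) A))) Z) := by
  classical
  obtain ⟨S, rfl⟩ := exists_constructibleSetData_iff.2 hZ
  let T : Finset (MvPolynomial (Fin n) A) := S.biUnion fun C => insert C.f (Finset.univ.image C.g)
  let R : Subalgebra ℤ A := Algebra.adjoin ℤ ((T.biUnion MvPolynomial.coeffs : Finset A) : Set A)
  have : Algebra.FiniteType ℤ R := (Subalgebra.fg_iff_finiteType _).1 ⟨_, rfl⟩
  have : IsNoetherianRing R := Algebra.FiniteType.isNoetherianRing ℤ R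
  let ψ : MvPolynomial (Fin n) R →+* MvPolynomial (Fin n) A := MvPolynomial.map R.val.toRingHom
  have hlift : ∀ p ∈ T, p ∈ Set.range ψ := by
    intro p hp
    rw [MvPolynomial.mem_range_map_iff_coeffs_subset]
    intro c hc
    exact ⟨⟨c, Algebra.subset_adjoin (Finset.mem_biUnion.2 ⟨p, hp, hc⟩)⟩, rfl⟩
  have hC : ∀ C ∈ S, ∃ C₀ : BasicConstructibleSetData (MvPolynomial (Fin n) R), C₀.map ψ = C := by
    intro C hC
    obtain ⟨f₀, hf₀⟩ := hlift C.f (Finset.mem_biUnion.2 ⟨C, hC, Finset.mem_insert_self _ _⟩)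
    choose g₀ hg₀ using fun i => hlift (C.g i) (Finset.mem_biUnion.2 ⟨C, hC,
      Finset.mem_insert_of_mem (Finset.mem_image.2 ⟨i, Finset.mem_univ _, rfl⟩)⟩)
    exact ⟨⟨f₀, C.n, g₀⟩, BasicConstructibleSetData.ext hf₀ rfl (heq_of_eq (funext hg₀))⟩
  choose C₀ hC₀ using hC
  let S₀ : ConstructibleSetData (MvPolynomial (Fin n) R) := S.attach.image fun C => C₀ C.1 C.2
  have hS : S₀.map ψ = S := by
    ext C
    simp only [S₀, ConstructibleSetData.map, Finset.mem_image, Finset.mem_attach, true_and]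
    constructor
    · rintro ⟨_, ⟨⟨D, hD⟩, rfl⟩, rfl⟩; rwa [hC₀ D hD]
    · exact fun hC => ⟨_, ⟨⟨C, hC⟩, rfl⟩, hC₀ C hC⟩
  rw [← hS, ConstructibleSetData.toSet_map]
  have hsq := isPullback_SpecMap_of_isPushout _ _ _ _
    (CommRingCat.isPushout_of_isPushout R A (MvPolynomial (Fin n) R) (MvPolynomial (Fin n) A))
  have hψ : algebraMap (MvPolynomial (Fin n) R) (MvPolynomial (Fin n) A) = ψ := rfl
  rw [hψ] at hsq
  have key := fclosure_preimage hsq.flip S₀.toSet
  exact (congrArg IsConstructible key).mpr (isConstructible_comap_preimage ψ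
    (isConstructible_fclosure_noetherian (R := R) S₀.isConstructible_toSet))

theorem isConstructible_fclosure (A B : Type u) [CommRing A] [CommRing B] [Algebra A B]
    [Algebra.FinitePresentation A B] {Z : Set (PrimeSpectrum B)} (hZ : IsConstructible Z) :
    IsConstructible (fclosure (comap (algebraMap A B)) Z) := by
  obtain ⟨n, g, hg, hker⟩ := ‹Algebra.FinitePresentation A B›
  have hgfp : g.toRingHom.FinitePresentation := RingHom.FinitePresentation.of_surjective _ hg hker
  have he : IsClosedEmbedding (comap g.toRingHom) := isClosedEmbedding_comap_of_surjective _ _ hg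
  have hcomp : ∀ y, comap (algebraMap A B) y =
      comap (algebraMap A (MvPolynomial (Fin n) A)) (comap g.toRingHom y) := fun y => by
    rw [← comap_comp_apply]
    congr 1
    exact g.comp_algebraMap.symm
  have heq : fclosure (comap (algebraMap A B)) Z = comap g.toRingHom ⁻¹'
      fclosure (comap (algebraMap A (MvPolynomial (Fin n) A))) (comap g.toRingHom '' Z) := by
    ext x
    have h1 : comap g.toRingHom '' (Z ∩ comap (algebraMap A B) ⁻¹' {comap (algebraMap A B) x}) =
        comap g.toRingHom '' Z ∩ comap (algebraMap A (MvPolynomial (Fin n) A)) ⁻¹'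
          {comap (algebraMap A (MvPolynomial (Fin n) A)) (comap g.toRingHom x)} := by
      rw [← Set.image_inter_preimage]
      congr 2
      ext y
      simp only [Set.mem_preimage, Set.mem_singleton_iff, hcomp]
    rw [Set.mem_preimage]
    change x ∈ closure _ ↔ comap g.toRingHom x ∈ closure _
    rw [← h1, he.closure_image_eq, he.injective.mem_set_image]
  rw [heq]
  exact isConstructible_comap_preimage _ (isConstructible_fclosure_mvPolynomial A n
    (isConstructible_comap_image hgfp hZ))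

section Scheme

open CategoryTheory AlgebraicGeometry

variable {X S : Scheme.{u}} (f : X ⟶ S)

/-- Closures in fibres of a locally constructible set form a locally constructible set. -/
theorem isLocallyConstructible_fclosure [LocallyOfFinitePresentation f] {Z : Set X}
    (hZ : IsLocallyConstructible Z) : IsLocallyConstructible (fclosure f Z) := by
  choose U hU V hV hVU hxV using Groth.Agent.Unram.exists_chart f
  refine IsLocallyConstructible.of_isOpenCover
    (TopologicalSpace.IsOpenCover.mk (eq_top_iff.2 fun x _ => TopologicalSpace.Opens.mem_iSup.2 ⟨x, hxV x⟩)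
      : TopologicalSpace.IsOpenCover V) (fun x => ?_)
  have := f.finitePresentation_appLE (hU x) (hV x) (hVU x)
  algebraize [(f.appLE (U x) (V x) (hVU x)).hom]
  let e : PrimeSpectrum Γ(X, V x) → X := (hV x).fromSpec
  have he : IsOpenEmbedding e := (hV x).fromSpec.isOpenEmbedding
  have hfe : ∀ y, f (e y) = (hU x).fromSpec (comap (algebraMap Γ(S, U x) Γ(X, V x)) y) := fun y =>
    congr($((IsAffineOpen.SpecMap_appLE_fromSpec f (hU x) (hV x) (hVU x)).symm) y)
  have hpre : IsConstructible (e ⁻¹' Z) :=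
    (hZ.preimage_of_isOpenEmbedding he).isConstructible
  have heq : e ⁻¹' fclosure f Z = fclosure (comap (algebraMap Γ(S, U x) Γ(X, V x))) (e ⁻¹' Z) := by
    ext y
    rw [Set.mem_preimage]
    change e y ∈ closure _ ↔ y ∈ closure _
    rw [← Set.mem_preimage, he.isOpenMap.preimage_closure_eq_closure_preimage he.continuous, Set.preimage_inter]
    congr! 2
    ext z
    simp only [Set.mem_inter_iff, Set.mem_preimage, Set.mem_singleton_iff, hfe]
    exact and_congr_right fun _ => (hU x).fromSpec.isOpenEmbedding.injective.eq_iff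
  have hc : IsConstructible (e ⁻¹' fclosure f Z) := heq ▸ isConstructible_fclosure _ _ hpre
  have h2 : (Subtype.val ⁻¹' fclosure f Z : Set (V x)) = (hV x).isoSpec.hom ⁻¹' (e ⁻¹' fclosure f Z) := by
    ext y
    have hy : e ((hV x).primeIdealOf y) = y.1 := (hV x).fromSpec_primeIdealOf y
    simp only [Set.mem_preimage]
    exact iff_of_eq (congrArg (· ∈ fclosure f Z) hy.symm)
  refine Eq.mpr (congrArg _ h2) ?_
  exact hc.isLocallyConstructible.preimage_of_isOpenEmbedding
    ((hV x).isoSpec.hom.homeomorph.isOpenEmbedding)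

/-- `Z'` lies fibrewise in the closure of `Z`: a locally constructible condition on the base. -/
theorem isLocallyConstructible_setOf_subset_closure [LocallyOfFinitePresentation f] [QuasiCompact f]
    [QuasiSeparated f] {Z Z' : Set X} (hZ : IsLocallyConstructible Z) (hZ' : IsLocallyConstructible Z') :
    IsLocallyConstructible {s : S | Z' ∩ f ⁻¹' {s} ⊆ closure (Z ∩ f ⁻¹' {s})} := by
  have hc : IsLocallyConstructible ((f '' (Z' ∩ (fclosure f Z)ᶜ))ᶜ) :=
    Groth.Agent.LimSch.isLocallyConstructible_compl (f.isLocallyConstructible_image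
      (hZ'.inter (Groth.Agent.LimSch.isLocallyConstructible_compl (isLocallyConstructible_fclosure f hZ))))
  convert! hc using 1
  ext s
  simp only [Set.mem_ofPred_eq, Set.mem_compl_iff, Set.mem_image, Set.mem_inter_iff, not_exists]
  constructor
  · rintro h x ⟨⟨hx, hxc⟩, rfl⟩
    exact hxc (h ⟨hx, rfl⟩)
  · rintro h x ⟨hx, hxs⟩
    by_contra hn
    refine h x ⟨⟨hx, fun hxc => hn ?_⟩, hxs⟩
    rw [← (show f x = s from hxs)]
    exact hxc

/-- The trace of `Z` on the fibre over `s` is closed: a locally constructible condition. -/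
theorem isLocallyConstructible_setOf_isClosed [LocallyOfFinitePresentation f] [QuasiCompact f]
    [QuasiSeparated f] {Z : Set X} (hZ : IsLocallyConstructible Z) :
    IsLocallyConstructible {s : S | IsClosed (Subtype.val ⁻¹' Z : Set ↥(f ⁻¹' {s}))} := by
  have hc : IsLocallyConstructible ((f '' (fclosure f Z ∩ Zᶜ))ᶜ) :=
    Groth.Agent.LimSch.isLocallyConstructible_compl (f.isLocallyConstructible_image
      ((isLocallyConstructible_fclosure f hZ).inter (Groth.Agent.LimSch.isLocallyConstructible_compl hZ)))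
  convert! hc using 1
  ext s
  simp only [Set.mem_ofPred_eq, Set.mem_compl_iff, Set.mem_image, Set.mem_inter_iff, not_exists]
  rw [isClosed_iff_clusterPt]
  simp only [← mem_closure_iff_clusterPt, Topology.IsInducing.subtypeVal.closure_eq_preimage_closure_image,
    Set.mem_preimage, Subtype.image_preimage_coe]
  constructor
  · rintro h x ⟨⟨hxc, hxZ⟩, rfl⟩
    exact hxZ (h ⟨x, rfl⟩ (by rw [Set.inter_comm]; exact hxc))
  · rintro h ⟨x, hxs⟩ hx
    by_contra hn
    refine h x ⟨⟨?_, hn⟩, hxs⟩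
    change x ∈ closure _
    rw [show f x = s from hxs, Set.inter_comm]
    exact hx

end Scheme

end Groth.Agent.ConstrFib
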