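import Mathlib.RingTheory.Spectrum.Prime.Chevalley
import Mathlib.RingTheory.Support
import Mathlib.RingTheory.LocalRing.Module
import Mathlib.Algebra.BigOperators.Field
import Mathlib.RingTheory.Extension.Cotangent.Basic
import Mathlib.AlgebraicGeometry.PullbackCarrier
import Mathlib.AlgebraicGeometry.Morphisms.QuasiSeparated
import Mathlib.AlgebraicGeometry.Morphisms.FinitePresentation
import Mathlib.AlgebraicGeometry.Morphisms.UniversallyInjective
import Groth.Agent.AlgSpc.LfpCancel
import Groth.Agent.LimSch.Constructible
import Groth.Agent.Unram.Pointwise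
import Groth.Agent.UnramFibre.Basic

/-!
Tools for the constructibility of the locus of points `s : S` where the fibre `f_s : X_s ⟶ Y_s`
of an `S`-morphism has a given property.
-/

set_option autoImplicit false

universe u

open CategoryTheory Limits AlgebraicGeometry TensorProduct

namespace Groth.Agent.ConstrFib

/-- The support of a finitely presented module is constructible. -/
theorem isConstructible_support (A M : Type u) [CommRing A] [AddCommGroup M] [Module A M]
    [Module.FinitePresentation A M] : Topology.IsConstructible (Module.support A M) := by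
  classical
  obtain ⟨n, K, e, hK⟩ := Module.FinitePresentation.exists_fin A M
  obtain ⟨T, hT⟩ := hK
  let π : (Fin n → A) →ₗ[A] M := e.symm.toLinearMap.comp K.mkQ
  have hπ : Function.Surjective π := e.symm.surjective.comp K.mkQ_surjective
  have hπK : ∀ v, π v = 0 ↔ v ∈ K := fun v => by simp [π]
  let ℓ : (Fin n → A) → MvPolynomial (Fin n) A :=
    fun v => ∑ j, MvPolynomial.C (v j) * MvPolynomial.X j
  let F (i : Fin n) : Finset (MvPolynomial (Fin n) A) :=
    insert (MvPolynomial.X i - 1) (T.image ℓ)
  let B (i : Fin n) := MvPolynomial (Fin n) A ⧸ Ideal.span (F i : Set (MvPolynomial (Fin n) A))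
  suffices h : Module.support A M = ⋃ i, Set.range (PrimeSpectrum.comap (algebraMap A (B i))) by
    rw [h]
    refine Topology.IsConstructible.iUnion fun i => PrimeSpectrum.isConstructible_range_comap ?_
    rw [RingHom.finitePresentation_algebraMap]
    exact Algebra.FinitePresentation.quotient ⟨F i, rfl⟩
  ext p
  constructor
  · intro hp
    rw [Module.mem_support_iff_nontrivial_residueField_tensorProduct] at hp
    obtain ⟨φ, hφ⟩ : ∃ φ : Module.Dual p.asIdeal.ResidueField (p.asIdeal.ResidueField ⊗[A] M), φ ≠ 0 :=
      exists_ne 0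
    let ψ : M →ₗ[A] p.asIdeal.ResidueField :=
      (φ.restrictScalars A).comp (TensorProduct.mk A p.asIdeal.ResidueField M 1)
    obtain ⟨i, hi⟩ : ∃ i, ψ (π (Pi.single i 1)) ≠ 0 := by
      by_contra! hcon
      refine hφ (LinearMap.ext fun x => ?_)
      have hψ : ψ.comp π = 0 := by
        refine (Pi.basisFun A (Fin n)).ext fun i => ?_
        simpa using hcon i
      induction x using TensorProduct.induction_on with
      | zero => simp
      | tmul c m =>
        obtain ⟨v, rfl⟩ := hπ m
        have h1 : φ (1 ⊗ₜ π v) = 0 := LinearMap.congr_fun hψ v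
        rw [show c ⊗ₜ[A] π v = c • ((1 : p.asIdeal.ResidueField) ⊗ₜ[A] π v) by
          rw [TensorProduct.smul_tmul', smul_eq_mul, mul_one], map_smul, h1, smul_zero]
        rfl
      | add x y hx hy => simp [map_add, hx, hy]
    let c := ψ (π (Pi.single i 1))
    let w : MvPolynomial (Fin n) A →ₐ[A] p.asIdeal.ResidueField :=
      MvPolynomial.aeval fun j => ψ (π (Pi.single j 1)) / c
    have hw : ∀ v, w (ℓ v) = ψ (π v) / c := fun v => by
      have hv : v = ∑ j, v j • (Pi.single j (1 : A) : Fin n → A) := by
        ext j; simp [Pi.single_apply]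
      conv_rhs => rw [hv, map_sum, map_sum, Finset.sum_div]
      simp only [ℓ, w, map_sum, map_mul, MvPolynomial.aeval_C, MvPolynomial.aeval_X, map_smul]
      exact Finset.sum_congr rfl fun j _ => by rw [Algebra.smul_def, mul_div_assoc]
    let q : B i →ₐ[A] p.asIdeal.ResidueField :=
      Ideal.Quotient.liftₐ _ w (by
        suffices Ideal.span (F i : Set (MvPolynomial (Fin n) A)) ≤ RingHom.ker w from fun a ha => this ha
        rw [Ideal.span_le]
        intro a ha
        simp only [F, Finset.coe_insert, Finset.coe_image, Set.mem_insert_iff, Set.mem_image] at ha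
        rw [SetLike.mem_coe, RingHom.mem_ker]
        rcases ha with rfl | ⟨v, hv, rfl⟩
        · simp [w, div_self (show ψ (π (Pi.single i 1)) ≠ 0 from hi), c]
        · rw [hw, (hπK v).2 (hT ▸ Submodule.subset_span hv), map_zero, zero_div])
    refine Set.mem_iUnion.2 ⟨i, ⟨RingHom.ker q, RingHom.ker_isPrime q⟩, ?_⟩
    refine PrimeSpectrum.ext ?_
    change (RingHom.ker q).comap (algebraMap A (B i)) = p.asIdeal
    refine Eq.trans ?_ p.asIdeal.ker_algebraMap_residueField
    ext a
    rw [Ideal.mem_comap, RingHom.mem_ker, RingHom.mem_ker, AlgHom.commutes]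
  · intro hp
    obtain ⟨i, P, rfl⟩ := Set.mem_iUnion.1 hp
    rw [Module.mem_support_iff']
    refine ⟨π (Pi.single i 1), fun r hr h0 => hr ?_⟩
    rw [← map_smul, hπK] at h0
    let κ := P.asIdeal.ResidueField
    let θ : (Fin n → A) →ₗ[A] κ := Fintype.linearCombination A
      fun j => algebraMap (B i) κ (Ideal.Quotient.mk _ (MvPolynomial.X j))
    have hθ : ∀ v, θ v = algebraMap (B i) κ (Ideal.Quotient.mk _ (ℓ v)) := fun v => by
      simp only [θ, ℓ, Fintype.linearCombination_apply, map_sum, map_mul, Algebra.smul_def]
      refine Finset.sum_congr rfl fun j _ => ?_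
      congr 1
    have hK0 : K ≤ LinearMap.ker θ := by
      rw [← hT, Submodule.span_le]
      intro v hv
      rw [SetLike.mem_coe, LinearMap.mem_ker, hθ, Ideal.Quotient.eq_zero_iff_mem.2
        (Ideal.subset_span (by simp [F]; exact Or.inr ⟨v, hv, rfl⟩)), map_zero]
    have h1 : θ (r • (Pi.single i 1 : Fin n → A)) = 0 := hK0 h0
    have hX : Ideal.Quotient.mk (Ideal.span (F i : Set (MvPolynomial (Fin n) A))) (MvPolynomial.X i) = 1 := by
      rw [← map_one (Ideal.Quotient.mk _), Ideal.Quotient.mk_eq_mk_iff_sub_mem]
      exact Ideal.subset_span (by simp [F])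
    rw [map_smul, Fintype.linearCombination_apply_single, one_smul, hX, map_one, Algebra.smul_def,
      mul_one, IsScalarTower.algebraMap_apply A (B i) κ, Ideal.algebraMap_residueField_eq_zero] at h1
    exact h1

/-- The ramification locus of a morphism locally of finite presentation is locally constructible. -/
theorem isLocallyConstructible_ramified {X Y : Scheme.{u}} (f : X ⟶ Y)
    [LocallyOfFinitePresentation f] :
    Topology.IsLocallyConstructible {x | ¬ (f.stalkMap x).hom.FormallyUnramified} := by
  choose U hU V hV hVU hxV using Groth.Agent.Unram.exists_chart f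
  refine Topology.IsLocallyConstructible.of_isOpenCover
    (TopologicalSpace.IsOpenCover.mk (eq_top_iff.2 fun x _ => TopologicalSpace.Opens.mem_iSup.2 ⟨x, hxV x⟩)
      : TopologicalSpace.IsOpenCover V) (fun x => ?_)
  have := f.finitePresentation_appLE (hU x) (hV x) (hVU x)
  algebraize [(f.appLE (U x) (V x) (hVU x)).hom]
  have hc : Topology.IsConstructible (Module.support Γ(X, V x) Ω[Γ(X, V x)⁄Γ(Y, U x)]) :=
    isConstructible_support _ _
  have heq : (Subtype.val ⁻¹' {y | ¬ (f.stalkMap y).hom.FormallyUnramified} : Set (V x)) =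
      (hV x).primeIdealOf ⁻¹' Module.support Γ(X, V x) Ω[Γ(X, V x)⁄Γ(Y, U x)] := by
    ext ⟨y, hy⟩
    have h := Groth.Agent.Unram.formallyUnramified_stalkMap_iff (U x) (hU x) (V x) (hV x) (hVU x) hy
    rw [Algebra.unramifiedLocus_eq_compl_support] at h
    exact (not_congr h).trans not_not
  refine Eq.mpr (congrArg _ heq) ?_
  exact hc.isLocallyConstructible.preimage_of_isOpenEmbedding
    ((hV x).isoSpec.hom.homeomorph.isOpenEmbedding)

/-- The comparison square between `f` and the map `φ` of fibres over `s`. -/
theorem isPullback_fibre {X Y S T : Scheme.{u}} (f : X ⟶ Y) (g : Y ⟶ S) (t : T ⟶ S)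
    (w : (pullback.fst (f ≫ g) t ≫ f) ≫ g = pullback.snd (f ≫ g) t ≫ t) :
    IsPullback (pullback.fst (f ≫ g) t)
      (pullback.lift (pullback.fst (f ≫ g) t ≫ f) (pullback.snd (f ≫ g) t) w) f (pullback.fst g t) := by
  refine IsPullback.of_bot ?_ (pullback.lift_fst _ _ _).symm (IsPullback.of_hasPullback g t)
  rw [pullback.lift_snd]
  exact IsPullback.of_hasPullback (f ≫ g) t

/-- The base change `φ` of `f` along an injective `i` (e.g. a preimmersion) is universally injective
iff all points of `X ×_Y X` over the image of `i` lie on the diagonal. -/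
theorem universallyInjective_iff_diagonal_range {X Y X' Y' : Scheme.{u}} (f : X ⟶ Y) (i : Y' ⟶ Y)
    (i' : X' ⟶ X) (φ : X' ⟶ Y') (H : IsPullback i' φ f i) [IsPreimmersion i] :
    UniversallyInjective φ ↔
      ∀ z : ↥(pullback f f), (pullback.fst f f ≫ f) z ∈ Set.range i →
        z ∈ Set.range (pullback.diagonal f) := by
  let P := pullback (pullback.fst f f ≫ f) i
  have hb : (pullback.fst (pullback.fst f f ≫ f) i ≫ pullback.snd f f) ≫ f =
      pullback.snd (pullback.fst f f ≫ f) i ≫ i := by
    rw [Category.assoc, ← pullback.condition (f := f) (g := f)]; exact pullback.condition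
  have ha : (pullback.fst (pullback.fst f f ≫ f) i ≫ pullback.fst f f) ≫ f =
      pullback.snd (pullback.fst f f ≫ f) i ≫ i := by
    rw [Category.assoc]; exact pullback.condition
  let a : P ⟶ X' := H.lift _ _ ha
  let b : P ⟶ X' := H.lift _ _ hb
  let q : P ⟶ pullback φ φ := pullback.lift a b (by simp [a, b])
  let m : pullback φ φ ⟶ pullback f f := pullback.map φ φ f f i' i' i H.w.symm H.w.symm
  have q1 : q ≫ pullback.fst φ φ = a := pullback.lift_fst _ _ _
  have q2 : q ≫ pullback.snd φ φ = b := pullback.lift_snd _ _ _
  have m1 : m ≫ pullback.fst f f = pullback.fst φ φ ≫ i' := pullback.lift_fst _ _ _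
  have m2 : m ≫ pullback.snd f f = pullback.snd φ φ ≫ i' := pullback.lift_snd _ _ _
  have a1 : a ≫ i' = pullback.fst (pullback.fst f f ≫ f) i ≫ pullback.fst f f := H.lift_fst _ _ _
  have a2 : a ≫ φ = pullback.snd (pullback.fst f f ≫ f) i := H.lift_snd _ _ _
  have b1 : b ≫ i' = pullback.fst (pullback.fst f f ≫ f) i ≫ pullback.snd f f := H.lift_fst _ _ _
  have hqm : q ≫ m = pullback.fst (pullback.fst f f ≫ f) i := by
    apply pullback.hom_ext
    · rw [Category.assoc, m1, ← Category.assoc, q1, a1]
    · rw [Category.assoc, m2, ← Category.assoc, q2, b1]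
  have hΔ : pullback.diagonal φ ≫ m = i' ≫ pullback.diagonal f := by
    apply pullback.hom_ext
    · rw [Category.assoc, m1, ← Category.assoc, pullback.diagonal_fst, Category.id_comp,
        Category.assoc, pullback.diagonal_fst, Category.comp_id]
    · rw [Category.assoc, m2, ← Category.assoc, pullback.diagonal_snd, Category.id_comp,
        Category.assoc, pullback.diagonal_snd, Category.comp_id]
  constructor
  · intro hφ z hz
    have hsurj : Surjective (pullback.diagonal φ) := (UniversallyInjective.iff_diagonal φ).1 hφ
    obtain ⟨p, rfl⟩ : z ∈ Set.range (pullback.fst (pullback.fst f f ≫ f) i) := by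
      rw [Scheme.Pullback.range_fst]; exact hz
    obtain ⟨w, hw⟩ := hsurj.surj (q p)
    refine ⟨i' w, ?_⟩
    rw [← Scheme.Hom.comp_apply, ← hΔ, ← hqm, Scheme.Hom.comp_apply, Scheme.Hom.comp_apply, hw]
  · intro h
    rw [UniversallyInjective.iff_diagonal]
    refine ⟨fun v => ?_⟩
    have hmi : m ≫ pullback.fst f f ≫ f = (pullback.fst φ φ ≫ φ) ≫ i := by
      rw [← Category.assoc, m1, Category.assoc, H.w, Category.assoc]
    let r : pullback φ φ ⟶ P := pullback.lift m (pullback.fst φ φ ≫ φ) hmi
    have r1 : r ≫ pullback.fst (pullback.fst f f ≫ f) i = m := pullback.lift_fst _ _ _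
    have r2 : r ≫ pullback.snd (pullback.fst f f ≫ f) i = pullback.fst φ φ ≫ φ := pullback.lift_snd _ _ _
    have b2 : b ≫ φ = pullback.snd (pullback.fst f f ≫ f) i := H.lift_snd _ _ _
    have hrq : r ≫ q = 𝟙 _ := by
      apply pullback.hom_ext
      · rw [Category.assoc, q1, Category.id_comp]
        apply H.hom_ext
        · rw [Category.assoc, a1, ← Category.assoc, r1, m1]
        · rw [Category.assoc, a2, r2]
      · rw [Category.assoc, q2, Category.id_comp]
        apply H.hom_ext
        · rw [Category.assoc, b1, ← Category.assoc, r1, m2]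
        · rw [Category.assoc, b2, r2, pullback.condition]
    have hinj : Function.Injective m := by
      have hr : Function.Injective r := fun x y hxy => by
        simpa [← Scheme.Hom.comp_apply, hrq] using congrArg q hxy
      have hm : m = r ≫ pullback.fst (pullback.fst f f ≫ f) i := (pullback.lift_fst _ _ _).symm
      rw [hm, Scheme.Hom.comp_base, TopCat.coe_comp]
      exact (IsPreimmersion.isEmbedding (f := pullback.fst (pullback.fst f f ≫ f) i)).injective.comp hr
    have hz : (pullback.fst f f ≫ f) (m v) ∈ Set.range i :=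
      ⟨(pullback.fst φ φ ≫ φ) v, by
        simp only [← Scheme.Hom.comp_apply]
        rw [← hmi]⟩
    obtain ⟨x, hx⟩ := h (m v) hz
    obtain ⟨w, rfl⟩ : x ∈ Set.range i' := by
      have hx' : (f : X ⟶ Y) x ∈ Set.range i := by
        have : (pullback.diagonal f ≫ pullback.fst f f ≫ f) x ∈ Set.range i := by
          rw [Scheme.Hom.comp_apply, hx]; exact hz
        simpa using this
      obtain ⟨y', hy'⟩ := hx'
      obtain ⟨w, hw, -⟩ := Scheme.exists_preimage_of_isPullback H x y' hy'.symm
      exact ⟨w, hw⟩
    refine ⟨w, hinj ?_⟩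
    rw [← Scheme.Hom.comp_apply, hΔ, Scheme.Hom.comp_apply, hx]

/-- A base change `φ` of `f` along a preimmersion `i` is a monomorphism iff it is universally injective
and `f` is unramified at all points over the image of `i`. -/
theorem mono_iff_universallyInjective_and_unramified {X Y X' Y' : Scheme.{u}} (f : X ⟶ Y) (i : Y' ⟶ Y)
    (i' : X' ⟶ X) (φ : X' ⟶ Y') (H : IsPullback i' φ f i) [LocallyOfFiniteType f] :
    Mono φ ↔ UniversallyInjective φ ∧
      ∀ x, f x ∈ Set.range i → (f.stalkMap x).hom.FormallyUnramified := by
  have : LocallyOfFiniteType φ := MorphismProperty.of_isPullback H inferInstance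
  constructor
  · intro hm
    refine ⟨?_, fun x hx => ?_⟩
    · have : IsIso (pullback.diagonal φ) := inferInstance
      exact (UniversallyInjective.iff_diagonal φ).2 inferInstance
    · obtain ⟨y', hy'⟩ := hx
      obtain ⟨x', hx', -⟩ := Scheme.exists_preimage_of_isPullback
        (IsPullback.of_hasPullback f i) x y' hy'.symm
      rw [← hx']
      refine Groth.Agent.UnramFibre.formallyUnramified_stalkMap_of_baseChange f i x' ?_
      have : Mono (pullback.snd f i) := by
        rw [← H.isoPullback_inv_snd]; infer_instance
      exact FormallyUnramified.stalkMap (pullback.snd f i) x'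
  · rintro ⟨hui, hun⟩
    let U : X.Opens := ⟨{x | (f.stalkMap x).hom.FormallyUnramified},
      Groth.Agent.Unram.isOpen_unramified_stalkMap f⟩
    have hU : FormallyUnramified (U.ι ≫ f) := by
      rw [Groth.Agent.Unram.formallyUnramified_iff_stalkMap]
      intro y
      exact (Groth.Agent.Unram.stalkMap_ι_comp_iff RingHom.FormallyUnramified.respectsIso f U y).2 y.2
    have hrange : Set.range i' ⊆ Set.range U.ι := by
      rintro _ ⟨x', rfl⟩
      rw [Scheme.Opens.range_ι]
      exact hun _ ⟨φ x', congr($(H.w.symm) x')⟩
    let l : X' ⟶ U := IsOpenImmersion.lift U.ι i' hrange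
    have hl : l ≫ U.ι = i' := IsOpenImmersion.lift_fac _ _ _
    have hsq : IsPullback l (𝟙 X') U.ι i' := IsPullback.of_vert_isIso_mono ⟨by rw [hl, Category.id_comp]⟩
    have hp := hsq.paste_vert H
    rw [Category.id_comp] at hp
    have : FormallyUnramified φ := MorphismProperty.of_isPullback hp hU
    have : Surjective (pullback.diagonal φ) := (UniversallyInjective.iff_diagonal φ).1 hui
    have : Epi (pullback.diagonal φ).base := (TopCat.epi_iff_surjective _).2 (pullback.diagonal φ).surjective
    have : IsIso (pullback.diagonal φ) := IsOpenImmersion.isIso _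
    exact pullback.isIso_diagonal_iff φ |>.1 this

variable {X Y S : Scheme.{u}} (f : X ⟶ Y) (g : Y ⟶ S)

/-- The locus of `s` where the fibre map is universally injective, as an image. -/
theorem setOf_universallyInjective_eq :
    {s : S | UniversallyInjective (pullback.lift (pullback.fst (f ≫ g) (S.fromSpecResidueField s) ≫ f)
      (pullback.snd (f ≫ g) (S.fromSpecResidueField s)) ((Category.assoc _ _ _).trans pullback.condition) :
        pullback (f ≫ g) (S.fromSpecResidueField s) ⟶ pullback g (S.fromSpecResidueField s))} =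
      ((pullback.fst f f ≫ f ≫ g) '' (Set.range (pullback.diagonal f))ᶜ)ᶜ := by
  ext s
  rw [Set.mem_ofPred_eq, universallyInjective_iff_diagonal_range f _ _ _ (isPullback_fibre f g _ _)]
  simp only [Scheme.Pullback.range_fst, Scheme.range_fromSpecResidueField, Set.mem_preimage,
    Set.mem_singleton_iff, Set.mem_compl_iff, Set.mem_image, not_exists, not_and, Scheme.Hom.comp_apply]
  exact forall_congr' fun z => ⟨fun h hz hzs => hz (h hzs), fun h hzs => by_contra fun hz => h hz hzs⟩

theorem isLocallyConstructible_setOf_universallyInjective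
    [LocallyOfFinitePresentation g] [QuasiCompact g] [QuasiSeparated g]
    [LocallyOfFinitePresentation (f ≫ g)] [QuasiCompact (f ≫ g)] [QuasiSeparated (f ≫ g)] :
    Topology.IsLocallyConstructible {s : S | UniversallyInjective
      (pullback.lift (pullback.fst (f ≫ g) (S.fromSpecResidueField s) ≫ f)
      (pullback.snd (f ≫ g) (S.fromSpecResidueField s)) ((Category.assoc _ _ _).trans pullback.condition) :
        pullback (f ≫ g) (S.fromSpecResidueField s) ⟶ pullback g (S.fromSpecResidueField s))} := by
  rw [setOf_universallyInjective_eq]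
  have : QuasiCompact f := QuasiCompact.of_comp f g
  have : QuasiSeparated f := QuasiSeparated.of_comp f g
  have : LocallyOfFinitePresentation f := Groth.Agent.AlgSpc.lfp_of_comp f g
  have hd : LocallyOfFinitePresentation (pullback.diagonal f) := by
    have : LocallyOfFinitePresentation (pullback.diagonal f ≫ pullback.fst f f) := by
      rw [pullback.diagonal_fst]; infer_instance
    exact Groth.Agent.AlgSpc.lfp_of_comp _ (pullback.fst f f)
  have hc : Topology.IsLocallyConstructible (Set.range (pullback.diagonal f)) := by
    rw [← Set.image_univ]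
    exact (pullback.diagonal f).isLocallyConstructible_image .univ
  exact Groth.Agent.LimSch.isLocallyConstructible_compl
    ((pullback.fst f f ≫ f ≫ g).isLocallyConstructible_image
      (Groth.Agent.LimSch.isLocallyConstructible_compl hc))

theorem isLocallyConstructible_setOf_mono
    [LocallyOfFinitePresentation g] [QuasiCompact g] [QuasiSeparated g]
    [LocallyOfFinitePresentation (f ≫ g)] [QuasiCompact (f ≫ g)] [QuasiSeparated (f ≫ g)] :
    Topology.IsLocallyConstructible {s : S | Mono
      (pullback.lift (pullback.fst (f ≫ g) (S.fromSpecResidueField s) ≫ f)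
      (pullback.snd (f ≫ g) (S.fromSpecResidueField s)) ((Category.assoc _ _ _).trans pullback.condition) :
        pullback (f ≫ g) (S.fromSpecResidueField s) ⟶ pullback g (S.fromSpecResidueField s))} := by
  have : LocallyOfFinitePresentation f := Groth.Agent.AlgSpc.lfp_of_comp f g
  have hram : Topology.IsLocallyConstructible
      (((f ≫ g) '' {x | ¬ (f.stalkMap x).hom.FormallyUnramified})ᶜ) :=
    Groth.Agent.LimSch.isLocallyConstructible_compl
      ((f ≫ g).isLocallyConstructible_image (isLocallyConstructible_ramified f))
  convert! (isLocallyConstructible_setOf_universallyInjective f g).inter hram using 1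
  ext s
  rw [Set.mem_ofPred_eq, mono_iff_universallyInjective_and_unramified f _ _ _ (isPullback_fibre f g _ _)]
  simp only [Scheme.Pullback.range_fst, Scheme.range_fromSpecResidueField, Set.mem_preimage,
    Set.mem_singleton_iff, Set.mem_inter_iff, Set.mem_ofPred_eq, Set.mem_compl_iff, Set.mem_image,
    not_exists, not_and, Scheme.Hom.comp_apply]
  refine and_congr_right fun _ => forall_congr' fun x => ?_
  exact ⟨fun h hx hs => hx (h hs), fun h hs => by_contra fun hx => h hx hs⟩

end Groth.Agent.ConstrFib
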