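import Groth.Agent.ConstrFib.Basic
import Groth.Agent.ConstrFib.Closure
import Mathlib.AlgebraicGeometry.Morphisms.Separated

/-!
Constructibility of fibre loci defined by closure conditions: open / locally closed traces,
dominant and separated fibre morphisms.
-/

set_option autoImplicit false

universe u

open CategoryTheory Limits AlgebraicGeometry Topology

namespace Groth.Agent.ConstrFib

open Groth.Agent.LimSch (isLocallyConstructible_compl)

/-- Base change of `X ×_Y X → Y` along `i`. -/
theorem isPullback_diag {X Y X' Y' : Scheme.{u}} (f : X ⟶ Y) (i : Y' ⟶ Y)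
    (i' : X' ⟶ X) (φ : X' ⟶ Y') (H : IsPullback i' φ f i) :
    IsPullback (pullback.map φ φ f f i' i' i H.w.symm H.w.symm) (pullback.fst φ φ ≫ φ)
      (pullback.fst f f ≫ f) i := by
  have h1 := (IsPullback.of_hasPullback φ φ).flip.paste_horiz H
  have hm : pullback.map φ φ f f i' i' i H.w.symm H.w.symm ≫ pullback.snd f f = pullback.snd φ φ ≫ i' :=
    pullback.lift_snd _ _ _
  rw [← H.w, ← hm] at h1
  exact (IsPullback.of_right h1 (pullback.lift_fst _ _ _) (IsPullback.of_hasPullback f f).flip).paste_vert H

/-- The range of a base change of `i` is the preimage of the range of `i`. -/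
theorem range_of_isPullback {X Y X' Y' : Scheme.{u}} {f : X ⟶ Y} {i : Y' ⟶ Y}
    {i' : X' ⟶ X} {φ : X' ⟶ Y'} (H : IsPullback i' φ f i) :
    Set.range i' = f ⁻¹' Set.range i := by
  ext x
  constructor
  · rintro ⟨w, rfl⟩; exact ⟨φ w, congr($(H.w.symm) w)⟩
  · rintro ⟨y, hy⟩
    obtain ⟨w, hw, -⟩ := Scheme.exists_preimage_of_isPullback H x y hy.symm
    exact ⟨w, hw⟩

variable {X S : Scheme.{u}} (f : X ⟶ S)

theorem isLocallyConstructible_setOf_isOpen [LocallyOfFinitePresentation f] [QuasiCompact f]
    [QuasiSeparated f] {Z : Set X} (hZ : IsLocallyConstructible Z) :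
    IsLocallyConstructible {s : S | IsOpen (Subtype.val ⁻¹' Z : Set ↥(f ⁻¹' {s}))} := by
  convert! isLocallyConstructible_setOf_isClosed f (isLocallyConstructible_compl hZ) using 1
  ext s
  simp only [Set.mem_ofPred_eq, Set.preimage_compl, isClosed_compl_iff]

theorem isLocallyConstructible_setOf_isLocallyClosed [LocallyOfFinitePresentation f] [QuasiCompact f]
    [QuasiSeparated f] {Z : Set X} (hZ : IsLocallyConstructible Z) :
    IsLocallyConstructible {s : S | IsLocallyClosed (Subtype.val ⁻¹' Z : Set ↥(f ⁻¹' {s}))} := by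
  convert! isLocallyConstructible_setOf_isClosed f
    ((isLocallyConstructible_fclosure f hZ).inter (isLocallyConstructible_compl hZ)) using 1
  ext s
  simp only [Set.mem_ofPred_eq]
  rw [isLocallyClosed_iff_isOpen_coborder]
  have hcl : closure (Subtype.val ⁻¹' Z : Set ↥(f ⁻¹' {s})) =
      Subtype.val ⁻¹' fclosure f Z := by
    ext ⟨x, hx⟩
    rw [Topology.IsInducing.subtypeVal.closure_eq_preimage_closure_image, Set.mem_preimage,
      Subtype.image_preimage_coe, Set.mem_preimage]
    change x ∈ closure _ ↔ x ∈ closure _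
    rw [show f x = s from hx, Set.inter_comm]
  rw [coborder, isOpen_compl_iff, hcl]
  rfl

variable {Y : Scheme.{u}} (φ : X ⟶ Y) (g : Y ⟶ S)

theorem isLocallyConstructible_setOf_isDominant
    [LocallyOfFinitePresentation g] [QuasiCompact g] [QuasiSeparated g]
    [LocallyOfFinitePresentation (φ ≫ g)] [QuasiCompact (φ ≫ g)] [QuasiSeparated (φ ≫ g)] :
    Topology.IsLocallyConstructible {s : S | IsDominant
      (pullback.lift (pullback.fst (φ ≫ g) (S.fromSpecResidueField s) ≫ φ)
      (pullback.snd (φ ≫ g) (S.fromSpecResidueField s)) ((Category.assoc _ _ _).trans pullback.condition) :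
        pullback (φ ≫ g) (S.fromSpecResidueField s) ⟶ pullback g (S.fromSpecResidueField s))} := by
  have : QuasiCompact φ := QuasiCompact.of_comp φ g
  have : LocallyOfFinitePresentation φ := Groth.Agent.AlgSpc.lfp_of_comp φ g
  have hrange : IsLocallyConstructible (Set.range φ) := by
    rw [← Set.image_univ]
    exact φ.isLocallyConstructible_image .univ
  convert! isLocallyConstructible_setOf_subset_closure g hrange .univ using 1
  ext s
  set t := S.fromSpecResidueField s
  set φs : pullback (φ ≫ g) t ⟶ pullback g t :=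
    pullback.lift (pullback.fst (φ ≫ g) t ≫ φ) (pullback.snd (φ ≫ g) t)
      ((Category.assoc _ _ _).trans pullback.condition) with hφs
  have H := isPullback_fibre φ g t ((Category.assoc _ _ _).trans pullback.condition)
  have he : IsEmbedding (pullback.fst g t) := IsPreimmersion.isEmbedding (f := pullback.fst g t)
  have hr : Set.range (pullback.fst g t) = g ⁻¹' {s} := by
    rw [Scheme.Pullback.range_fst, Scheme.range_fromSpecResidueField]
  have him : (pullback.fst g t) '' Set.range φs = Set.range φ ∩ g ⁻¹' {s} := by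
    rw [← hr]
    ext y
    constructor
    · rintro ⟨_, ⟨w, rfl⟩, rfl⟩
      exact ⟨⟨pullback.fst (φ ≫ g) t w, congr($(H.w) w)⟩, _, rfl⟩
    · rintro ⟨⟨x, rfl⟩, z, hz⟩
      obtain ⟨w, hw, hwz⟩ := Scheme.exists_preimage_of_isPullback H x z hz.symm
      exact ⟨z, ⟨w, hwz⟩, hz⟩
  simp only [Set.mem_ofPred_eq, Set.univ_inter]
  rw [isDominant_iff, DenseRange, Dense, ← him, ← hr, Set.range_subset_iff]
  exact forall_congr' fun z => by rw [he.closure_eq_preimage_closure_image, Set.mem_preimage]

theorem isLocallyConstructible_setOf_isSeparated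
    [LocallyOfFinitePresentation g] [QuasiCompact g] [QuasiSeparated g]
    [LocallyOfFinitePresentation (φ ≫ g)] [QuasiCompact (φ ≫ g)] [QuasiSeparated (φ ≫ g)] :
    Topology.IsLocallyConstructible {s : S | IsSeparated
      (pullback.lift (pullback.fst (φ ≫ g) (S.fromSpecResidueField s) ≫ φ)
      (pullback.snd (φ ≫ g) (S.fromSpecResidueField s)) ((Category.assoc _ _ _).trans pullback.condition) :
        pullback (φ ≫ g) (S.fromSpecResidueField s) ⟶ pullback g (S.fromSpecResidueField s))} := by
  have : QuasiCompact φ := QuasiCompact.of_comp φ g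
  have : QuasiSeparated φ := QuasiSeparated.of_comp φ g
  have : LocallyOfFinitePresentation φ := Groth.Agent.AlgSpc.lfp_of_comp φ g
  have : LocallyOfFinitePresentation (pullback.diagonal φ) := by
    have : LocallyOfFinitePresentation (pullback.diagonal φ ≫ pullback.fst φ φ) := by
      rw [pullback.diagonal_fst]; infer_instance
    exact Groth.Agent.AlgSpc.lfp_of_comp _ (pullback.fst φ φ)
  have hc : IsLocallyConstructible (Set.range (pullback.diagonal φ)) := by
    rw [← Set.image_univ]
    exact (pullback.diagonal φ).isLocallyConstructible_image .univ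
  convert! isLocallyConstructible_setOf_isClosed (pullback.fst φ φ ≫ φ ≫ g) hc using 1
  ext s
  set t := S.fromSpecResidueField s
  set φs : pullback (φ ≫ g) t ⟶ pullback g t :=
    pullback.lift (pullback.fst (φ ≫ g) t ≫ φ) (pullback.snd (φ ≫ g) t)
      ((Category.assoc _ _ _).trans pullback.condition) with hφs
  have H := isPullback_fibre φ g t ((Category.assoc _ _ _).trans pullback.condition)
  have hD := isPullback_diag φ _ _ φs H
  set m := pullback.map φs φs φ φ (pullback.fst (φ ≫ g) t) (pullback.fst (φ ≫ g) t)
    (pullback.fst g t) H.w.symm H.w.symm with hm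
  have : IsPreimmersion m := MorphismProperty.of_isPullback hD.flip inferInstance
  have hr : Set.range m = (pullback.fst φ φ ≫ φ ≫ g) ⁻¹' {s} := by
    rw [range_of_isPullback hD, Scheme.Pullback.range_fst, Scheme.range_fromSpecResidueField]
    rfl
  have him : m '' Set.range (pullback.diagonal φs) = Set.range (pullback.diagonal φ) ∩ Set.range m := by
    have hΔ : pullback.diagonal φs ≫ m = pullback.fst (φ ≫ g) t ≫ pullback.diagonal φ := by
      apply pullback.hom_ext
      · rw [Category.assoc, hm, pullback.lift_fst, ← Category.assoc, pullback.diagonal_fst, Category.id_comp,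
          Category.assoc, pullback.diagonal_fst, Category.comp_id]
      · rw [Category.assoc, hm, pullback.lift_snd, ← Category.assoc, pullback.diagonal_snd, Category.id_comp,
          Category.assoc, pullback.diagonal_snd, Category.comp_id]
    ext z
    constructor
    · rintro ⟨_, ⟨w, rfl⟩, rfl⟩
      exact ⟨⟨pullback.fst (φ ≫ g) t w, congr($(hΔ.symm) w)⟩, _, rfl⟩
    · rintro ⟨⟨x, rfl⟩, v, hv⟩
      obtain ⟨w, hw⟩ : x ∈ Set.range (pullback.fst (φ ≫ g) t) := by
        rw [range_of_isPullback H, Set.mem_preimage, show φ x = (pullback.fst φ φ ≫ φ) (pullback.diagonal φ x) by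
          rw [← Scheme.Hom.comp_apply, pullback.diagonal_fst_assoc], ← hv]
        exact ⟨(pullback.fst φs φs ≫ φs) v, congr($(hD.w.symm) v)⟩
      exact ⟨pullback.diagonal φs w, ⟨w, rfl⟩, by
        rw [← Scheme.Hom.comp_apply, hΔ, Scheme.Hom.comp_apply, hw]⟩
  have key : IsClosed (Set.range (pullback.diagonal φs)) ↔
      IsClosed (Subtype.val ⁻¹' Set.range (pullback.diagonal φ) : Set ↥((pullback.fst φ φ ≫ φ ≫ g) ⁻¹' {s})) := by
    rw [← hr]
    let e := (IsPreimmersion.isEmbedding (f := m)).toHomeomorph
    rw [← e.isClosed_image]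
    have : e '' Set.range (pullback.diagonal φs) = Subtype.val ⁻¹' Set.range (pullback.diagonal φ) := by
      refine Subtype.val_injective.image_injective ?_
      rw [← Set.image_comp, Subtype.image_preimage_coe, Set.inter_comm]
      exact him
    rw [this]
  simp only [Set.mem_ofPred_eq]
  refine Iff.trans ?_ key
  rw [isSeparated_iff]
  exact ⟨fun h => h.base_closed.isClosed_range, fun h => IsClosedImmersion.of_isPreimmersion _ h⟩

end Groth.Agent.ConstrFib
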