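import Mathlib
import Groth.Agent.ConstrFib.Loci
import Groth.Agent.ZMT.FiniteFactor

/-!
Constructibility of the locus of points `s` over which the fibre morphism is an immersion.
-/

set_option autoImplicit false
set_option backward.isDefEq.respectTransparency.types false

universe u

open CategoryTheory Limits AlgebraicGeometry Topology

namespace Groth.Agent.ConstrFib

/-- A monomorphism factored as an immersion into something finite is an immersion iff its range is locally
closed and no point of the closure lies over the range outside it. -/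
theorem isImmersion_iff_of_finite {X Z Y : Scheme.{u}} (j : X ⟶ Z) (π : Z ⟶ Y) [IsImmersion j] [IsFinite π]
    (φ : X ⟶ Y) (hφ : j ≫ π = φ) [Mono φ] :
    IsImmersion φ ↔ IsLocallyClosed (Set.range φ) ∧ closure (Set.range j) ∩ π ⁻¹' Set.range φ ⊆ Set.range j := by
  subst hφ
  constructor
  · intro h
    refine ⟨h.isLocallyClosed_range, ?_⟩
    rintro z ⟨hz, hzφ⟩
    let U := (j ≫ π).coborderRange
    have hle : Set.range j ⊆ Set.range (π ⁻¹ᵁ U).ι := by
      rintro _ ⟨x, rfl⟩
      rw [Scheme.Opens.range_ι]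
      exact subset_coborder (s := Set.range (j ≫ π)) ⟨x, rfl⟩
    let l : X ⟶ π ⁻¹ᵁ U := IsOpenImmersion.lift (π ⁻¹ᵁ U).ι j hle
    have hl : l ≫ (π ⁻¹ᵁ U).ι = j := IsOpenImmersion.lift_fac _ _ _
    have hc : l ≫ (π ∣_ U) = (j ≫ π).liftCoborder := by
      rw [← cancel_mono U.ι, Category.assoc, morphismRestrict_ι, ← Category.assoc, hl, Scheme.Hom.liftCoborder_ι]
    have : IsClosedImmersion (l ≫ (π ∣_ U)) := hc ▸ inferInstance
    have : IsClosedImmersion l := IsClosedImmersion.of_comp l (π ∣_ U)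
    have hzU : z ∈ π ⁻¹ᵁ U := subset_coborder (s := Set.range (j ≫ π)) hzφ
    have hmem : (⟨z, hzU⟩ : (π ⁻¹ᵁ U).toScheme) ∈ closure (Set.range l) := by
      rw [(π ⁻¹ᵁ U).ι.isOpenEmbedding.isEmbedding.closure_eq_preimage_closure_image]
      show z ∈ closure ((π ⁻¹ᵁ U).ι '' Set.range l)
      rw [← Set.range_comp, show ⇑(π ⁻¹ᵁ U).ι ∘ ⇑l = ⇑j from by rw [← hl]; rfl]
      exact hz
    rw [l.isClosedEmbedding.isClosed_range.closure_eq] at hmem
    obtain ⟨x, hx⟩ := hmem
    exact ⟨x, by rw [← hl, Scheme.Hom.comp_apply, hx]; rfl⟩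
  · rintro ⟨hlc, hcl⟩
    let U : Y.Opens := ⟨coborder (Set.range (j ≫ π)), hlc.isOpen_coborder⟩
    have hle : Set.range j ⊆ Set.range (π ⁻¹ᵁ U).ι := by
      rintro _ ⟨x, rfl⟩
      rw [Scheme.Opens.range_ι]
      exact subset_coborder (s := Set.range (j ≫ π)) ⟨x, rfl⟩
    let l : X ⟶ π ⁻¹ᵁ U := IsOpenImmersion.lift (π ⁻¹ᵁ U).ι j hle
    have hl : l ≫ (π ⁻¹ᵁ U).ι = j := IsOpenImmersion.lift_fac _ _ _
    have : IsPreimmersion (l ≫ (π ⁻¹ᵁ U).ι) := hl ▸ inferInstance
    have : IsPreimmersion l := IsPreimmersion.of_comp l (π ⁻¹ᵁ U).ι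
    have hrange : Set.range l = (π ⁻¹ᵁ U).ι ⁻¹' closure (Set.range j) := by
      ext w
      constructor
      · rintro ⟨x, rfl⟩
        exact subset_closure ⟨x, by rw [← hl]; rfl⟩
      · intro hw
        have hπw : π ((π ⁻¹ᵁ U).ι w) ∈ closure (Set.range (j ≫ π)) := by
          refine (Set.range_comp π j ▸ image_closure_subset_closure_image π.continuous) ⟨_, hw, rfl⟩
        have hw' : π ((π ⁻¹ᵁ U).ι w) ∈ Set.range (j ≫ π) := by
          by_contra hn
          exact (w.2 : π w.1 ∈ coborder (Set.range (j ≫ π))) ⟨hπw, hn⟩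
        obtain ⟨x, hx⟩ := hcl ⟨hw, hw'⟩
        refine ⟨x, (π ⁻¹ᵁ U).ι.isOpenEmbedding.injective ?_⟩
        rw [← Scheme.Hom.comp_apply, hl, hx]
    have : IsClosedImmersion l := IsClosedImmersion.of_isPreimmersion l
      (hrange ▸ isClosed_closure.preimage (π ⁻¹ᵁ U).ι.continuous)
    have he : (l ≫ (π ∣_ U)) ≫ U.ι = j ≫ π := by
      rw [Category.assoc, morphismRestrict_ι, ← Category.assoc, hl]
    have : Mono ((l ≫ (π ∣_ U)) ≫ U.ι) := he ▸ inferInstance
    have : Mono (l ≫ (π ∣_ U)) := mono_of_mono _ U.ι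
    have : IsClosedImmersion (l ≫ (π ∣_ U)) := (IsClosedImmersion.iff_isFinite_and_mono _).2 ⟨inferInstance, inferInstance⟩
    rw [← he]
    infer_instance

/-- Every finite algebra is a quotient of a finite algebra of finite presentation. -/
theorem exists_finite_finitePresentation (B C : Type u) [CommRing B] [CommRing C] [Algebra B C] [Module.Finite B C] :
    ∃ (C' : Type u) (_ : CommRing C') (_ : Algebra B C') (h : C' →ₐ[B] C),
      Module.Finite B C' ∧ Algebra.FinitePresentation B C' ∧ Function.Surjective h := by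
  classical
  obtain ⟨s, hs⟩ := Algebra.FiniteType.out (R := B) (A := C)
  choose p hp hp0 using fun c : C => Algebra.IsIntegral.isIntegral (R := B) c
  let P := MvPolynomial s B
  let r : s → P := fun c => Polynomial.aeval (MvPolynomial.X c) (p c)
  let I : Ideal P := Ideal.span (Set.range r)
  let ev : P →ₐ[B] C := MvPolynomial.aeval fun c : s => (c : C)
  have hI : I ≤ RingHom.ker ev := by
    rw [Ideal.span_le]
    rintro _ ⟨c, rfl⟩
    rw [SetLike.mem_coe, RingHom.mem_ker, show r c = Polynomial.aeval (MvPolynomial.X c) (p c) from rfl,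
      ← Polynomial.aeval_algHom_apply, MvPolynomial.aeval_X]
    exact hp0 c
  have : Algebra.FinitePresentation B (P ⧸ I) :=
    Algebra.FinitePresentation.quotient ⟨Finset.univ.image r, by rw [Finset.coe_image, Finset.coe_univ, Set.image_univ]⟩
  have hint : Algebra.IsIntegral B (P ⧸ I) := by
    refine ⟨fun z => ?_⟩
    obtain ⟨z, rfl⟩ := Ideal.Quotient.mk_surjective z
    induction z using MvPolynomial.induction_on with
    | C a => exact isIntegral_algebraMap
    | add a b ha hb => rw [map_add]; exact ha.add hb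
    | mul_X a c ha =>
      rw [map_mul]
      refine ha.mul ⟨p c, hp c, ?_⟩
      rw [← Polynomial.aeval_def, ← Ideal.Quotient.mkₐ_eq_mk B, Polynomial.aeval_algHom_apply,
        Ideal.Quotient.mkₐ_eq_mk, Ideal.Quotient.eq_zero_iff_mem]
      exact Ideal.subset_span ⟨c, rfl⟩
  refine ⟨P ⧸ I, inferInstance, inferInstance, Ideal.Quotient.liftₐ I ev (fun a ha => hI ha),
    Algebra.IsIntegral.finite, inferInstance, ?_⟩
  intro z
  obtain ⟨w, rfl⟩ : z ∈ ev.range := by
    have : ev.range = ⊤ := by
      rw [← Algebra.adjoin_range_eq_range_aeval, eq_top_iff, ← hs]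
      exact Algebra.adjoin_mono fun c hc => ⟨⟨c, hc⟩, rfl⟩
    rw [this]; trivial
  exact ⟨Ideal.Quotient.mk I w, rfl⟩

/-- A monomorphism of finite type into an affine scheme embeds into a finite finitely presented scheme. -/
theorem exists_finite_fp_factor {X Y : Scheme.{u}} [IsAffine Y] (f : X ⟶ Y) [Mono f]
    [LocallyOfFiniteType f] [QuasiCompact f] :
    ∃ (T : Scheme.{u}) (j : X ⟶ T) (π : T ⟶ Y),
      IsImmersion j ∧ QuasiCompact j ∧ IsFinite π ∧ LocallyOfFinitePresentation π ∧ j ≫ π = f := by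
  have : UniversallyInjective f := (UniversallyInjective.iff_diagonal f).2 inferInstance
  obtain ⟨T, j, π, hj, hjq, hπ, hjπ⟩ := ZMT.exists_openImmersion_finite f
  have : IsAffine T := isAffine_of_isAffineHom π
  algebraize [π.appTop.hom]
  have : Module.Finite Γ(Y, ⊤) Γ(T, ⊤) := hπ.finite_app (U := ⊤) (isAffineOpen_top Y)
  obtain ⟨C', _, _, h, hC', hfp, hh⟩ := exists_finite_finitePresentation Γ(Y, ⊤) Γ(T, ⊤)
  let c : T ⟶ Spec (CommRingCat.of C') := T.isoSpec.hom ≫ Spec.map (CommRingCat.ofHom h.toRingHom)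
  have : IsClosedImmersion (Spec.map (CommRingCat.ofHom h.toRingHom)) := IsClosedImmersion.spec_of_surjective _ hh
  let π' : Spec (CommRingCat.of C') ⟶ Y := Spec.map (CommRingCat.ofHom (algebraMap Γ(Y, ⊤) C')) ≫ Y.isoSpec.inv
  have hπ' : IsFinite (Spec.map (CommRingCat.ofHom (algebraMap Γ(Y, ⊤) C'))) :=
    (IsFinite.SpecMap_iff _).2 (RingHom.finite_algebraMap.2 hC')
  have hπ'' : LocallyOfFinitePresentation (Spec.map (CommRingCat.ofHom (algebraMap Γ(Y, ⊤) C'))) :=
    (LocallyOfFinitePresentation.SpecMap_iff _).2 (RingHom.finitePresentation_algebraMap.2 hfp)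
  have hcπ : c ≫ π' = π := by
    simp only [c, π', Category.assoc]
    rw [← Spec.map_comp_assoc, ← CommRingCat.ofHom_comp,
      show h.toRingHom.comp (algebraMap Γ(Y, ⊤) C') = π.appTop.hom from h.comp_algebraMap,
      CommRingCat.ofHom_hom, Scheme.isoSpec_hom, ← Scheme.toSpecΓ_naturality_assoc, Scheme.toSpecΓ_isoSpec_inv,
      Category.comp_id]
  exact ⟨_, j ≫ c, π', inferInstance, inferInstance, inferInstance, inferInstance, by rw [Category.assoc, hcπ, hjπ]⟩

theorem prop_iff_of_isPullback {P : MorphismProperty Scheme.{u}} [P.RespectsIso] {X Y X₁ Y₁ X₂ Y₂ : Scheme.{u}}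
    {f : X ⟶ Y} {a₁ : X₁ ⟶ X} {φ₁ : X₁ ⟶ Y₁} {b₁ : Y₁ ⟶ Y} {a₂ : X₂ ⟶ X} {φ₂ : X₂ ⟶ Y₂} {b₂ : Y₂ ⟶ Y}
    (H₁ : IsPullback a₁ φ₁ f b₁) (H₂ : IsPullback a₂ φ₂ f b₂) (e : Y₁ ≅ Y₂) (he : e.hom ≫ b₂ = b₁) :
    P φ₁ ↔ P φ₂ := by
  have H₁' : IsPullback a₁ (φ₁ ≫ e.hom) f b₂ :=
    H₁.of_iso (Iso.refl _) (Iso.refl _) e (Iso.refl _) (by simp) (by simp) (by simp) (by simp [he])
  have h := IsPullback.isoIsPullback_hom_snd _ _ H₁' H₂
  rw [← P.cancel_right_of_respectsIso φ₁ e.hom, ← h, P.cancel_left_of_respectsIso]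

theorem residueFieldMap_surjective {X Y : Scheme.{u}} (f : X ⟶ Y) [IsPreimmersion f] (x : X) :
    Function.Surjective (f.residueFieldMap x) := by
  intro z
  obtain ⟨w, rfl⟩ := X.residue_surjective x z
  obtain ⟨v, rfl⟩ := f.stalkMap_surjective x w
  exact ⟨Y.residue (f x) v, ConcreteCategory.congr_hom (Scheme.residue_residueFieldMap f x) v⟩

theorem isIso_residueFieldMap {X Y : Scheme.{u}} (f : X ⟶ Y) [IsPreimmersion f] (x : X) :
    IsIso (f.residueFieldMap x) :=
  (ConcreteCategory.isIso_iff_bijective _).2 ⟨(f.residueFieldMap x).hom.injective, residueFieldMap_surjective f x⟩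

/-- The morphism of fibres over `s` induced by `f : X ⟶ Y` over `S`. -/
noncomputable abbrev fib {X Y S : Scheme.{u}} (f : X ⟶ Y) (g : Y ⟶ S) (s : S) :
    pullback (f ≫ g) (S.fromSpecResidueField s) ⟶ pullback g (S.fromSpecResidueField s) :=
  pullback.lift (pullback.fst (f ≫ g) (S.fromSpecResidueField s) ≫ f)
    (pullback.snd (f ≫ g) (S.fromSpecResidueField s)) ((Category.assoc _ _ _).trans pullback.condition)

theorem isPullback_fib {X Y S : Scheme.{u}} (f : X ⟶ Y) (g : Y ⟶ S) (s : S) :
    IsPullback (pullback.fst (f ≫ g) (S.fromSpecResidueField s)) (fib f g s) f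
      (pullback.fst g (S.fromSpecResidueField s)) :=
  isPullback_fibre f g _ _

theorem image_range_fib {X Y S : Scheme.{u}} (f : X ⟶ Y) (g : Y ⟶ S) (s : S) :
    pullback.fst g (S.fromSpecResidueField s) '' Set.range (fib f g s) = Set.range f ∩ g ⁻¹' {s} := by
  have hr : Set.range (pullback.fst g (S.fromSpecResidueField s)) = g ⁻¹' {s} := by
    rw [Scheme.Pullback.range_fst, Scheme.range_fromSpecResidueField]
  rw [← hr]
  ext y
  constructor
  · rintro ⟨_, ⟨w, rfl⟩, rfl⟩
    exact ⟨⟨_, congr($((isPullback_fib f g s).w) w)⟩, _, rfl⟩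
  · rintro ⟨⟨x, rfl⟩, z, hz⟩
    obtain ⟨w, -, hwz⟩ := Scheme.exists_preimage_of_isPullback (isPullback_fib f g s) x z hz.symm
    exact ⟨z, ⟨w, hwz⟩, hz⟩

/-- the underlying space of the fibre -/
theorem exists_fibreHomeo {Y S : Scheme.{u}} (g : Y ⟶ S) (s : S) :
    ∃ h : ↥(pullback g (S.fromSpecResidueField s)) ≃ₜ ↥(g ⁻¹' {s}),
      ∀ z, (h z).1 = pullback.fst g (S.fromSpecResidueField s) z := by
  have he : IsEmbedding (pullback.fst g (S.fromSpecResidueField s)) := IsPreimmersion.isEmbedding _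
  exact ⟨he.toHomeomorph.trans (Homeomorph.setCongr (by
    rw [Scheme.Pullback.range_fst, Scheme.range_fromSpecResidueField])), fun z => rfl⟩

theorem range_fib_eq {X Y S : Scheme.{u}} (f : X ⟶ Y) (g : Y ⟶ S) (s : S) :
    Set.range (fib f g s) = pullback.fst g (S.fromSpecResidueField s) ⁻¹' Set.range f := by
  have he : IsEmbedding (pullback.fst g (S.fromSpecResidueField s)) := IsPreimmersion.isEmbedding _
  refine he.injective.image_injective ?_
  rw [image_range_fib, Set.image_preimage_eq_inter_range, Scheme.Pullback.range_fst,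
    Scheme.range_fromSpecResidueField]

theorem isLocallyClosed_range_fib_iff {X Y S : Scheme.{u}} (f : X ⟶ Y) (g : Y ⟶ S) (s : S) :
    IsLocallyClosed (Set.range (fib f g s)) ↔
      IsLocallyClosed (Subtype.val ⁻¹' Set.range f : Set ↥(g ⁻¹' {s})) := by
  obtain ⟨h, hh⟩ := exists_fibreHomeo g s
  have e : Set.range (fib f g s) = h ⁻¹' (Subtype.val ⁻¹' Set.range f) := by
    rw [range_fib_eq]; ext z; simp only [Set.mem_preimage, hh]
  rw [e]
  refine ⟨fun hc => ?_, fun hc => hc.preimage h.continuous⟩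
  have := hc.preimage h.symm.continuous
  rwa [← Set.preimage_comp, h.self_comp_symm, Set.preimage_id] at this

theorem isClosed_range_fib_iff {X Y S : Scheme.{u}} (f : X ⟶ Y) (g : Y ⟶ S) (s : S) :
    IsClosed (Set.range (fib f g s)) ↔
      IsClosed (Subtype.val ⁻¹' Set.range f : Set ↥(g ⁻¹' {s})) := by
  obtain ⟨h, hh⟩ := exists_fibreHomeo g s
  have e : Set.range (fib f g s) = h ⁻¹' (Subtype.val ⁻¹' Set.range f) := by
    rw [range_fib_eq]; ext z; simp only [Set.mem_preimage, hh]
  rw [e, h.isClosed_preimage]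

/-- The immersion locus for a monomorphism with affine target. -/
theorem isLocallyConstructible_immersion_core {X Y S : Scheme.{u}} (f : X ⟶ Y) (g : Y ⟶ S) [Mono f] [IsAffine Y]
    [LocallyOfFinitePresentation g] [QuasiCompact g] [QuasiSeparated g]
    [LocallyOfFinitePresentation f] [QuasiCompact f] :
    IsLocallyConstructible {s : S | IsImmersion (fib f g s)} := by
  obtain ⟨Z, j, π, hj, hjq, hπ, hπfp, hjπ⟩ := exists_finite_fp_factor f
  have : LocallyOfFinitePresentation (j ≫ π) := hjπ ▸ inferInstance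
  have : LocallyOfFinitePresentation j := Groth.Agent.AlgSpc.lfp_of_comp j π
  have hrj : IsLocallyConstructible (Set.range j) := by
    rw [← Set.image_univ]; exact j.isLocallyConstructible_image .univ
  have hrf : IsLocallyConstructible (Set.range f) := by
    rw [← Set.image_univ]; exact f.isLocallyConstructible_image .univ
  have hbad : IsLocallyConstructible
      ((π ≫ g) '' (fclosure (π ≫ g) (Set.range j) ∩ (Set.range j)ᶜ ∩ π ⁻¹' Set.range f)) :=
    (π ≫ g).isLocallyConstructible_image
      (((isLocallyConstructible_fclosure (π ≫ g) hrj).inter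
        (Groth.Agent.LimSch.isLocallyConstructible_compl hrj)).inter
        (Groth.Agent.LimSch.isLocallyConstructible_preimage π hrf))
  convert! (isLocallyConstructible_setOf_isLocallyClosed g hrf).inter
    (Groth.Agent.LimSch.isLocallyConstructible_compl hbad) using 1
  ext s
  set t := S.fromSpecResidueField s
  let a := pullback.fst g t
  let b := pullback.fst (π ≫ g) t
  let πs : pullback (π ≫ g) t ⟶ pullback g t := fib π g s
  let js : pullback (f ≫ g) t ⟶ pullback (π ≫ g) t :=
    pullback.lift (pullback.fst (f ≫ g) t ≫ j) (pullback.snd (f ≫ g) t)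
      (by rw [Category.assoc, reassoc_of% hjπ]; exact pullback.condition)
  have hπs : IsPullback b πs π a := isPullback_fib π g s
  have hcomp : js ≫ πs = fib f g s := by
    dsimp only [js, πs, fib, t]
    apply pullback.hom_ext
    · rw [Category.assoc, pullback.lift_fst, pullback.lift_fst_assoc, pullback.lift_fst, Category.assoc, hjπ]
    · rw [Category.assoc, pullback.lift_snd, pullback.lift_snd, pullback.lift_snd]
  have hjs : IsPullback (pullback.fst (f ≫ g) t) js j b := by
    refine IsPullback.of_bot ?_ (pullback.lift_fst _ _ _).symm hπs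
    rw [hcomp, hjπ]
    exact isPullback_fib f g s
  have : IsImmersion js := MorphismProperty.of_isPullback hjs inferInstance
  have : IsFinite πs := MorphismProperty.of_isPullback hπs inferInstance
  have : Mono (fib f g s) :=
    MorphismProperty.of_isPullback (P := MorphismProperty.monomorphisms Scheme.{u}) (isPullback_fib f g s)
      (MorphismProperty.monomorphisms.infer_property f)
  have he : IsEmbedding b := IsPreimmersion.isEmbedding _
  have hrjs : Set.range js = b ⁻¹' Set.range j := by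
    ext w
    constructor
    · rintro ⟨x, rfl⟩
      exact ⟨_, congr($(hjs.w) x)⟩
    · rintro ⟨x, hx⟩
      obtain ⟨v, -, hv⟩ := Scheme.exists_preimage_of_isPullback hjs x w hx
      exact ⟨v, hv⟩
  have hrb : Set.range b = (π ≫ g) ⁻¹' {s} := by
    rw [Scheme.Pullback.range_fst, Scheme.range_fromSpecResidueField]
  rw [Set.mem_inter_iff, Set.mem_ofPred_eq, Set.mem_ofPred_eq, Set.mem_compl_iff,
    isImmersion_iff_of_finite js πs (fib f g s) hcomp, isLocallyClosed_range_fib_iff]
  refine and_congr_right fun _ => ?_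
  have hclos : ∀ w, w ∈ closure (Set.range js) ↔ b w ∈ fclosure (π ≫ g) (Set.range j) := by
    intro w
    rw [he.closure_eq_preimage_closure_image, Set.mem_preimage, hrjs, Set.image_preimage_eq_inter_range, hrb]
    have hbs : (π ≫ g) (b w) = s := hrb.le ⟨w, rfl⟩
    show _ ↔ b w ∈ closure _
    rw [hbs]
  constructor
  · rintro h ⟨z, ⟨⟨hz1, hz2⟩, hz3⟩, hzs⟩
    obtain ⟨w, rfl⟩ : z ∈ Set.range b := hrb.ge hzs
    refine hz2 ?_
    have hw : w ∈ Set.range js := h ⟨(hclos w).2 hz1, by
      rw [Set.mem_preimage, range_fib_eq, Set.mem_preimage]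
      have := congr($(hπs.w) w)
      rw [Scheme.Hom.comp_apply, Scheme.Hom.comp_apply] at this
      rw [← this]
      exact hz3⟩
    rw [hrjs] at hw
    exact hw
  · rintro h w ⟨hw1, hw2⟩
    by_contra hn
    rw [hrjs] at hn
    refine h ⟨b w, ⟨⟨(hclos w).1 hw1, hn⟩, ?_⟩, hrb.le ⟨w, rfl⟩⟩
    rw [Set.mem_preimage, range_fib_eq, Set.mem_preimage] at hw2
    have := congr($(hπs.w) w)
    rw [Scheme.Hom.comp_apply, Scheme.Hom.comp_apply] at this
    rw [Set.mem_preimage, this]
    exact hw2

/-- The immersion locus for a monomorphism over an affine base. -/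
theorem isLocallyConstructible_immersion_mono {X Y S : Scheme.{u}} (f : X ⟶ Y) (g : Y ⟶ S) [Mono f] [IsAffine S]
    [LocallyOfFinitePresentation g] [QuasiCompact g] [QuasiSeparated g]
    [LocallyOfFinitePresentation f] [QuasiCompact f] :
    IsLocallyConstructible {s : S | IsImmersion (fib f g s)} := by
  have : CompactSpace Y := QuasiCompact.compactSpace_of_compactSpace g
  obtain ⟨w, hw, hcov⟩ := isCompact_iff_finite_and_eq_biUnion_affineOpens (U := (⊤ : Y.Opens)).mp isCompact_univ
  have hcov' : iSup (fun W : w => (W.1.1 : Y.Opens)) = ⊤ := by rw [hcov, iSup_subtype']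
  have key : ∀ s : S, IsImmersion (fib f g s) ↔
      ∀ W : w, IsImmersion (fib (f ∣_ W.1.1) (W.1.1.ι ≫ g) s) := by
    intro s
    let a := pullback.fst g (S.fromSpecResidueField s)
    rw [IsZariskiLocalAtTarget.iff_of_iSup_eq_top (P := @IsImmersion) (fun W : w => a ⁻¹ᵁ W.1.1)
      (by rw [← Scheme.Hom.preimage_iSup, hcov', Scheme.Hom.preimage_top])]
    refine forall_congr' fun W => ?_
    have H₁ := (isPullback_morphismRestrict (fib f g s) (a ⁻¹ᵁ W.1.1)).flip.paste_horiz (isPullback_fib f g s)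
    have H₂ := (isPullback_fib (f ∣_ W.1.1) (W.1.1.ι ≫ g) s).paste_horiz
      (isPullback_morphismRestrict f W.1.1).flip
    have hO := (isPullback_morphismRestrict a W.1.1).paste_vert
      (IsPullback.of_hasPullback g (S.fromSpecResidueField s))
    refine prop_iff_of_isPullback H₁ H₂ hO.isoPullback ?_
    rw [← Category.assoc, IsPullback.isoPullback_hom_fst, morphismRestrict_ι]
  have : Finite w := hw.to_subtype
  have hset : {s : S | IsImmersion (fib f g s)} =
      ⋂ W : w, {s : S | IsImmersion (fib (f ∣_ W.1.1) (W.1.1.ι ≫ g) s)} := by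
    ext s
    simp only [Set.mem_iInter, Set.mem_ofPred_eq]
    exact key s
  rw [hset]
  have hW : ∀ W : w, IsConstructible {s : S | IsImmersion (fib (f ∣_ W.1.1) (W.1.1.ι ≫ g) s)} := by
    intro W
    have : IsAffine W.1.1.toScheme := W.1.2
    have : CompactSpace W.1.1.toScheme := inferInstance
    have : QuasiCompact (W.1.1.ι ≫ g) := quasiCompact_of_compactSpace _
    have : Mono (f ∣_ W.1.1) := MorphismProperty.of_isPullback (P := MorphismProperty.monomorphisms Scheme.{u})
      (isPullback_morphismRestrict f W.1.1).flip (MorphismProperty.monomorphisms.infer_property f)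
    exact (isLocallyConstructible_immersion_core (f ∣_ W.1.1) (W.1.1.ι ≫ g)).isConstructible
  exact (IsConstructible.iInter hW).isLocallyConstructible

/-- Properties of fibre morphisms do not change under base change along a preimmersion. -/
theorem prop_fib_baseChange_iff {P : MorphismProperty Scheme.{u}} [P.RespectsIso] {X Y S X' Y' S' : Scheme.{u}}
    (f : X ⟶ Y) (g : Y ⟶ S) (i : S' ⟶ S) [IsPreimmersion i] {f' : X' ⟶ Y'} {g' : Y' ⟶ S'} {qX : X' ⟶ X}
    {qY : Y' ⟶ Y} (hY : IsPullback qY g' g i) (hX : IsPullback qX f' f qY) (t : S') :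
    P (fib f' g' t) ↔ P (fib f g (i t)) := by
  have := isIso_residueFieldMap i t
  have H₁ := (isPullback_fib f' g' t).paste_horiz hX
  have hs₁ := (IsPullback.of_hasPullback g' (S'.fromSpecResidueField t)).paste_horiz hY
  have hs₂ := IsPullback.of_hasPullback g (S.fromSpecResidueField (i t))
  let m := asIso (Spec.map (i.residueFieldMap t))
  have hs₁' : IsPullback (pullback.fst g' (S'.fromSpecResidueField t) ≫ qY)
      (pullback.snd g' (S'.fromSpecResidueField t) ≫ m.hom) g (S.fromSpecResidueField (i t)) :=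
    hs₁.of_iso (Iso.refl _) (Iso.refl _) m (Iso.refl _) (by simp) (by simp) (by simp)
      (by simp [m, Scheme.Hom.SpecMap_residueFieldMap_fromSpecResidueField])
  exact prop_iff_of_isPullback H₁ (isPullback_fib f g (i t)) hs₁'.isoPullback hs₁'.isoPullback_hom_fst

/-- A morphism whose fibre morphisms are monomorphisms is a monomorphism. -/
theorem mono_of_forall_fib {X Y S : Scheme.{u}} (f : X ⟶ Y) (g : Y ⟶ S) [LocallyOfFiniteType f]
    (h : ∀ s, Mono (fib f g s)) : Mono f := by
  have hmem : ∀ y, y ∈ Set.range (pullback.fst g (S.fromSpecResidueField (g y))) := fun y => by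
    rw [Scheme.Pullback.range_fst, Scheme.range_fromSpecResidueField]; rfl
  have H : IsPullback (𝟙 X) f f (𝟙 Y) := IsPullback.of_horiz_isIso ⟨by simp⟩
  refine (mono_iff_universallyInjective_and_unramified f (𝟙 Y) (𝟙 X) f H).2 ⟨?_, fun x _ => ?_⟩
  · rw [universallyInjective_iff_diagonal_range f (𝟙 Y) (𝟙 X) f H]
    intro z _
    obtain ⟨h1, -⟩ := (mono_iff_universallyInjective_and_unramified f _ _ _
      (isPullback_fib f g (g ((pullback.fst f f ≫ f) z)))).1 (h _)
    exact (universallyInjective_iff_diagonal_range f _ _ _ (isPullback_fib f g _)).1 h1 z (hmem _)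
  · exact ((mono_iff_universallyInjective_and_unramified f _ _ _ (isPullback_fib f g (g (f x)))).1 (h _)).2 x (hmem _)

theorem range_specMap_comp {R R' : CommRingCat.{u}} (φ : R ⟶ R') {S : Scheme.{u}} (σ : Spec R ⟶ S) :
    Set.range (Spec.map φ ≫ σ) = σ '' (Set.range (PrimeSpectrum.comap φ.hom) : Set (PrimeSpectrum R)) := by
  ext x
  constructor
  · rintro ⟨t, rfl⟩
    exact ⟨_, ⟨t, rfl⟩, rfl⟩
  · rintro ⟨_, ⟨t, rfl⟩, rfl⟩
    exact ⟨t, rfl⟩

/-- The immersion locus over an affine base. -/
theorem isLocallyConstructible_immersion_affine {X Y S : Scheme.{u}} (f : X ⟶ Y) (g : Y ⟶ S) [IsAffine S]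
    [LocallyOfFinitePresentation g] [QuasiCompact g] [QuasiSeparated g]
    [LocallyOfFinitePresentation (f ≫ g)] [QuasiCompact (f ≫ g)] [QuasiSeparated (f ≫ g)] :
    IsLocallyConstructible {s : S | IsImmersion (fib f g s)} := by
  classical
  have : QuasiCompact f := QuasiCompact.of_comp f g
  have : LocallyOfFinitePresentation f := Groth.Agent.AlgSpc.lfp_of_comp f g
  let σ : Spec Γ(S, ⊤) ⟶ S := S.isoSpec.inv
  have hT : IsConstructible (σ ⁻¹' {s : S | Mono (fib f g s)} : Set (PrimeSpectrum Γ(S, ⊤))) :=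
    ((isLocallyConstructible_setOf_mono f g).preimage_of_isOpenEmbedding σ.isOpenEmbedding).isConstructible
  obtain ⟨D, hD⟩ := PrimeSpectrum.exists_constructibleSetData_iff.2 hT
  let I (C : PrimeSpectrum.BasicConstructibleSetData Γ(S, ⊤)) := Ideal.span (Set.range C.g)
  let A (C : PrimeSpectrum.BasicConstructibleSetData Γ(S, ⊤)) :=
    Localization.Away (Ideal.Quotient.mk (I C) C.f)
  let ι (C : PrimeSpectrum.BasicConstructibleSetData Γ(S, ⊤)) : Spec (CommRingCat.of (A C)) ⟶ S :=
    Spec.map (CommRingCat.ofHom (algebraMap (Γ(S, ⊤) ⧸ I C) (A C))) ≫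
      Spec.map (CommRingCat.ofHom (Ideal.Quotient.mk (I C))) ≫ σ
  have hrange : ∀ C, Set.range (ι C) = σ '' C.toSet := fun C => by
    simp only [ι]
    rw [← Category.assoc, ← Spec.map_comp, range_specMap_comp]
    refine congrArg (fun W => σ '' W) ?_
    show Set.range (PrimeSpectrum.comap ((algebraMap (Γ(S, ⊤) ⧸ I C) (A C)).comp (Ideal.Quotient.mk (I C)))) = C.toSet
    rw [PrimeSpectrum.comap_comp, Set.range_comp, PrimeSpectrum.localization_away_comap_range (A C) (Ideal.Quotient.mk (I C) C.f),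
      ← PrimeSpectrum.comap_basicOpen, TopologicalSpace.Opens.coe_comap, ContinuousMap.coe_mk,
      Set.image_preimage_eq_inter_range, range_comap_of_surjective _ _ Ideal.Quotient.mk_surjective,
      PrimeSpectrum.BasicConstructibleSetData.toSet, Set.sdiff_eq_compl_inter,
      PrimeSpectrum.basicOpen_eq_zeroLocus_compl, Ideal.mk_ker, PrimeSpectrum.zeroLocus_span]
  have hlfp : ∀ C, LocallyOfFinitePresentation (ι C) := fun C => by
    have h1 : LocallyOfFinitePresentation (Spec.map (CommRingCat.ofHom (Ideal.Quotient.mk (I C)))) :=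
      (LocallyOfFinitePresentation.SpecMap_iff _).2 (RingHom.finitePresentation_algebraMap.2
        (Algebra.FinitePresentation.quotient ⟨(Set.finite_range C.g).toFinset, by simp [I]⟩) :
        (algebraMap Γ(S, ⊤) (Γ(S, ⊤) ⧸ I C)).FinitePresentation)
    have h2 : IsOpenImmersion (Spec.map (CommRingCat.ofHom (algebraMap (Γ(S, ⊤) ⧸ I C) (A C)))) :=
      IsOpenImmersion.of_isLocalization (Ideal.Quotient.mk (I C) C.f)
    infer_instance
  have hpre : ∀ C, IsPreimmersion (ι C) := fun C => by
    have h2 : IsOpenImmersion (Spec.map (CommRingCat.ofHom (algebraMap (Γ(S, ⊤) ⧸ I C) (A C)))) :=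
      IsOpenImmersion.of_isLocalization (Ideal.Quotient.mk (I C) C.f)
    have h3 : IsClosedImmersion (Spec.map (CommRingCat.ofHom (Ideal.Quotient.mk (I C)))) :=
      IsClosedImmersion.spec_of_surjective _ Ideal.Quotient.mk_surjective
    infer_instance
  have hC : ∀ C ∈ D, IsConstructible ({s : S | IsImmersion (fib f g s)} ∩ Set.range (ι C)) := by
    intro C hCD
    have := hlfp C
    have := hpre C
    have : QuasiCompact (ι C) := quasiCompact_of_compactSpace _
    let g' := pullback.snd g (ι C)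
    let f' := pullback.snd f (pullback.fst g (ι C))
    have hY := IsPullback.of_hasPullback g (ι C)
    have hX := IsPullback.of_hasPullback f (pullback.fst g (ι C))
    have : Mono f' := mono_of_forall_fib f' g' fun t => by
      refine (prop_fib_baseChange_iff (P := MorphismProperty.monomorphisms Scheme.{u}) f g (ι C) hY hX t).2 ?_
      obtain ⟨z, hz, hzt⟩ := (hrange C).le ⟨t, rfl⟩
      have hmem : z ∈ (σ ⁻¹' {s : S | Mono (fib f g s)} : Set (PrimeSpectrum Γ(S, ⊤))) :=
        hD ▸ Set.mem_biUnion hCD hz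
      rw [← hzt]
      exact hmem
    have himg : {s : S | IsImmersion (fib f g s)} ∩ Set.range (ι C) = ι C '' {t | IsImmersion (fib f' g' t)} := by
      ext s
      constructor
      · rintro ⟨h, t, rfl⟩
        exact ⟨t, (prop_fib_baseChange_iff (P := @IsImmersion) f g (ι C) hY hX t).2 h, rfl⟩
      · rintro ⟨t, h, rfl⟩
        exact ⟨(prop_fib_baseChange_iff (P := @IsImmersion) f g (ι C) hY hX t).1 h, t, rfl⟩
    rw [himg]
    exact ((ι C).isLocallyConstructible_image (isLocallyConstructible_immersion_mono f' g')).isConstructible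
  have hset : {s : S | IsImmersion (fib f g s)} = ⋃ C ∈ D, {s : S | IsImmersion (fib f g s)} ∩ Set.range (ι C) := by
    refine Set.Subset.antisymm (fun s hs => ?_) (Set.iUnion₂_subset fun C _ => Set.inter_subset_left)
    have : IsImmersion (fib f g s) := hs
    have hm : Mono (fib f g s) := inferInstance
    obtain ⟨z, hz⟩ : ∃ z, σ z = s := ⟨S.isoSpec.hom s, by
      show (S.isoSpec.hom ≫ S.isoSpec.inv) s = s
      rw [Iso.hom_inv_id]; rfl⟩
    have hz' : z ∈ D.toSet := hD ▸ (show Mono (fib f g (σ z)) by rw [hz]; exact hm)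
    obtain ⟨C, hCD, hzC⟩ := Set.mem_iUnion₂.1 hz'
    exact Set.mem_biUnion hCD ⟨hs, (hrange C).ge ⟨z, hzC, hz⟩⟩
  rw [hset]
  exact (IsConstructible.biUnion D.finite_toSet hC).isLocallyConstructible

theorem isLocallyConstructible_setOf_isImmersion {X Y S : Scheme.{u}} (f : X ⟶ Y) (g : Y ⟶ S)
    [LocallyOfFinitePresentation g] [QuasiCompact g] [QuasiSeparated g]
    [LocallyOfFinitePresentation (f ≫ g)] [QuasiCompact (f ≫ g)] [QuasiSeparated (f ≫ g)] :
    IsLocallyConstructible {s : S | IsImmersion (fib f g s)} := by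
  have : QuasiCompact f := QuasiCompact.of_comp f g
  have : QuasiSeparated f := QuasiSeparated.of_comp f g
  have : LocallyOfFinitePresentation f := Groth.Agent.AlgSpc.lfp_of_comp f g
  refine IsLocallyConstructible.of_isOpenCover
    (TopologicalSpace.IsOpenCover.mk (iSup_affineOpens_eq_top S)
      : TopologicalSpace.IsOpenCover fun U : S.affineOpens => U.1) (fun U => ?_)
  have : IsAffine U.1.toScheme := U.2
  let g' := pullback.snd g U.1.ι
  let f' := pullback.snd f (pullback.fst g U.1.ι)
  have heq : (Subtype.val ⁻¹' {s : S | IsImmersion (fib f g s)} : Set U.1) = {t | IsImmersion (fib f' g' t)} := by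
    ext t
    exact (prop_fib_baseChange_iff (P := @IsImmersion) f g U.1.ι (IsPullback.of_hasPullback g U.1.ι)
      (IsPullback.of_hasPullback f (pullback.fst g U.1.ι)) t).symm
  exact (congrArg IsLocallyConstructible heq).mpr (isLocallyConstructible_immersion_affine f' g')

theorem isLocallyConstructible_setOf_isClosedImmersion {X Y S : Scheme.{u}} (f : X ⟶ Y) (g : Y ⟶ S)
    [LocallyOfFinitePresentation g] [QuasiCompact g] [QuasiSeparated g]
    [LocallyOfFinitePresentation (f ≫ g)] [QuasiCompact (f ≫ g)] [QuasiSeparated (f ≫ g)] :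
    IsLocallyConstructible {s : S | IsClosedImmersion (fib f g s)} := by
  have : QuasiCompact f := QuasiCompact.of_comp f g
  have : LocallyOfFinitePresentation f := Groth.Agent.AlgSpc.lfp_of_comp f g
  have hrf : IsLocallyConstructible (Set.range f) := by
    rw [← Set.image_univ]; exact f.isLocallyConstructible_image .univ
  convert! (isLocallyConstructible_setOf_isImmersion f g).inter (isLocallyConstructible_setOf_isClosed g hrf) using 1
  ext s
  rw [Set.mem_inter_iff, Set.mem_ofPred_eq, Set.mem_ofPred_eq, Set.mem_ofPred_eq, ← isClosed_range_fib_iff]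
  exact ⟨fun h => ⟨inferInstance, (fib f g s).isClosedEmbedding.isClosed_range⟩,
    fun ⟨h, hc⟩ => IsClosedImmersion.of_isPreimmersion _ hc⟩

end Groth.Agent.ConstrFib
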