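import Mathlib
import Groth.Agent.ConstrFib.Immersion
import Groth.Agent.Spectral.Basic
import Groth.Agent.LimSch.Descends

/-!
Spreading a property of a fibre to a constructible stratum: a property which descends along limits
and holds for the fibre morphism over `s` holds over some constructible subscheme through `s`.
-/

set_option autoImplicit false
set_option backward.isDefEq.respectTransparency.types false

universe u

open CategoryTheory Limits AlgebraicGeometry Topology

namespace Groth.Agent.ConstrFib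

/-- Constructibility is local for the constructible topology. -/
theorem isConstructible_of_local {X : Type u} [TopologicalSpace X] [CompactSpace X] [QuasiSober X]
    [PrespectralSpace X] [QuasiSeparatedSpace X] {E : Set X}
    (h : ∀ x, ∃ C : Set X, x ∈ C ∧ IsConstructible C ∧ IsConstructible (E ∩ C)) : IsConstructible E := by
  choose C hx hC hEC using h
  have hc := @isCompact_univ X (constructibleTopology X) Spectral.compactSpace_con
  obtain ⟨t, ht⟩ := @IsCompact.elim_finite_subcover X (constructibleTopology X) Set.univ X hc C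
    (fun x => (Spectral.isClopen_con_of_isConstructible (hC x)).2)
    (fun x _ => Set.mem_iUnion.2 ⟨x, hx x⟩)
  have : E = ⋃ x ∈ t, E ∩ C x := Set.Subset.antisymm (fun y hy => by
      obtain ⟨x, hxt, hyx⟩ := Set.mem_iUnion₂.1 (ht (Set.mem_univ y))
      exact Set.mem_biUnion hxt ⟨hy, hyx⟩)
    (Set.iUnion₂_subset fun x _ => Set.inter_subset_left)
  rw [this]
  exact IsConstructible.biUnion t.finite_toSet fun x _ => hEC x

theorem descends_inf {P Q H H' : MorphismProperty Scheme.{u}} [P.IsStableUnderBaseChange]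
    [Q.IsStableUnderBaseChange] (hP : LimSch.Descends.{u} P H) (hQ : LimSch.Descends.{u} Q H') :
    LimSch.Descends.{u} (P ⊓ Q) (H ⊓ H') := by
  intro I _ _ D c hc _ i _ X₀ f₀ _ _ h X q f hsq hf
  obtain ⟨j₁, φ₁, h₁⟩ := hP D c hc i f₀ h.1 q f hsq hf.1
  obtain ⟨j₂, φ₂, h₂⟩ := hQ D c hc i f₀ h.2 q f hsq hf.2
  obtain ⟨k, a₁, a₂, ha⟩ : ∃ (k : I) (a₁ : k ⟶ j₁) (a₂ : k ⟶ j₂), a₁ ≫ φ₁ = a₂ ≫ φ₂ := by
    obtain ⟨k, a₁, a₂, h⟩ := IsCofiltered.cospan φ₁ φ₂
    exact ⟨k, a₁, a₂, h⟩
  refine ⟨k, a₁ ≫ φ₁, ?_, ?_⟩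
  · exact LimSch.of_isPullback_comp (IsPullback.of_hasPullback f₀ (D.map φ₁)) (D.map a₁)
      (a' := pullback.fst f₀ (D.map (a₁ ≫ φ₁))) (by rw [← D.map_comp]; exact IsPullback.of_hasPullback _ _) h₁
  · exact LimSch.of_isPullback_comp (IsPullback.of_hasPullback f₀ (D.map φ₂)) (D.map a₂)
      (a' := pullback.fst f₀ (D.map (a₁ ≫ φ₁))) (by rw [← D.map_comp, ← ha]; exact IsPullback.of_hasPullback _ _) h₂

section Strata

variable {A : Type u} [CommRing A] (p : Ideal A) [p.IsPrime]

/-- The constructible neighbourhoods `V(F) ∩ D(g)` of a prime. -/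
structure Idx where
  g : A
  hg : g ∉ p
  F : Finset A
  hF : ↑F ⊆ (p : Set A)

instance : Preorder (Idx p) where
  le i j := i.g ∣ j.g ∧ i.F ⊆ j.F
  le_refl i := ⟨dvd_rfl, subset_rfl⟩
  le_trans i j k h h' := ⟨h.1.trans h'.1, h.2.trans h'.2⟩

instance : Nonempty (Idx p) := ⟨⟨1, fun h => ‹p.IsPrime›.ne_top ((Ideal.eq_top_iff_one p).2 h), ∅, by simp⟩⟩

instance : IsDirected (Idx p) (· ≤ ·) := ⟨fun i j => by
  classical
  exact ⟨⟨i.g * j.g, fun h => (‹p.IsPrime›.mem_or_mem h).elim i.hg j.hg, i.F ∪ j.F,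
      by rw [Finset.coe_union]; exact Set.union_subset i.hF j.hF⟩,
    ⟨dvd_mul_right _ _, Finset.subset_union_left⟩, ⟨dvd_mul_left _ _, Finset.subset_union_right⟩⟩⟩

variable {p}

/-- The ring of a stratum. -/
abbrev Idx.Ring (i : Idx p) : Type u :=
  Localization.Away (Ideal.Quotient.mk (Ideal.span (i.F : Set A)) i.g)

/-- The structure map of a stratum. -/
noncomputable def Idx.str (i : Idx p) : A →+* i.Ring :=
  (algebraMap (A ⧸ Ideal.span (i.F : Set A)) i.Ring).comp (Ideal.Quotient.mk (Ideal.span (i.F : Set A)))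

theorem Idx.hom_ext {i : Idx p} {B : Type*} [CommRing B] {φ ψ : i.Ring →+* B}
    (h : φ.comp i.str = ψ.comp i.str) : φ = ψ :=
  IsLocalization.ringHom_ext (Submonoid.powers (Ideal.Quotient.mk (Ideal.span (i.F : Set A)) i.g))
    (Ideal.Quotient.ringHom_ext h)

theorem Idx.exists_lift (i : Idx p) {B : Type u} [CommRing B] (σ : A →+* B) (hu : IsUnit (σ i.g))
    (hF : ∀ a ∈ i.F, σ a = 0) : ∃ φ : i.Ring →+* B, φ.comp i.str = σ := by
  have hl : ∀ a ∈ Ideal.span (i.F : Set A), σ a = 0 := fun a ha =>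
    RingHom.mem_ker.1 ((Ideal.span_le.2 fun b hb => RingHom.mem_ker.2 (hF b hb)) ha)
  let φ : i.Ring →+* B := IsLocalization.Away.lift (S := i.Ring) (Ideal.Quotient.mk (Ideal.span (i.F : Set A)) i.g)
    (g := Ideal.Quotient.lift (Ideal.span (i.F : Set A)) σ hl) hu
  refine ⟨φ, RingHom.ext fun a => ?_⟩
  simp [φ, Idx.str]

theorem Idx.isUnit_str {i j : Idx p} (h : i.g ∣ j.g) : IsUnit (j.str i.g) := by
  have hu : IsUnit (j.str j.g) :=
    IsLocalization.Away.algebraMap_isUnit (S := j.Ring) (Ideal.Quotient.mk (Ideal.span (j.F : Set A)) j.g)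
  obtain ⟨c, hc⟩ := h
  have he : j.str j.g = j.str i.g * j.str c := by rw [← map_mul, ← hc]
  rw [he] at hu
  exact isUnit_of_mul_isUnit_left hu

theorem Idx.str_eq_zero (j : Idx p) {a : A} (ha : a ∈ j.F) : j.str a = 0 := by
  rw [Idx.str, RingHom.comp_apply, Ideal.Quotient.eq_zero_iff_mem.2 (Ideal.subset_span ha), map_zero]

/-- Transition maps. -/
noncomputable def Idx.map {i j : Idx p} (h : i ≤ j) : i.Ring →+* j.Ring :=
  (i.exists_lift j.str (Idx.isUnit_str h.1) fun _ ha => j.str_eq_zero (h.2 ha)).choose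

theorem Idx.map_str {i j : Idx p} (h : i ≤ j) : (Idx.map h).comp i.str = j.str :=
  (i.exists_lift j.str (Idx.isUnit_str h.1) fun _ ha => j.str_eq_zero (h.2 ha)).choose_spec

theorem Idx.exists_toResidue (i : Idx p) :
    ∃ φ : i.Ring →+* p.ResidueField, φ.comp i.str = algebraMap A p.ResidueField :=
  i.exists_lift _
    (isUnit_iff_ne_zero.2 fun h => i.hg (Ideal.algebraMap_residueField_eq_zero.1 h))
    fun _ ha => Ideal.algebraMap_residueField_eq_zero.2 (i.hF ha)

/-- The map to the residue field. -/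
noncomputable def Idx.toResidue (i : Idx p) : i.Ring →+* p.ResidueField := i.exists_toResidue.choose

theorem Idx.toResidue_str (i : Idx p) : i.toResidue.comp i.str = algebraMap A p.ResidueField :=
  i.exists_toResidue.choose_spec

variable (p)

/-- The diagram of strata. -/
noncomputable def strataRing : Idx p ⥤ CommRingCat.{u} where
  obj i := CommRingCat.of i.Ring
  map f := CommRingCat.ofHom (Idx.map f.le)
  map_id i := CommRingCat.hom_ext (Idx.hom_ext (by simp [Idx.map_str]))
  map_comp {i j k} f g := CommRingCat.hom_ext (Idx.hom_ext (by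
    simp [RingHom.comp_assoc, Idx.map_str]))

/-- The cocone of residue maps. -/
noncomputable def strataCocone : Cocone (strataRing p) where
  pt := CommRingCat.of p.ResidueField
  ι :=
  { app := fun i => CommRingCat.ofHom i.toResidue
    naturality := fun i j f => CommRingCat.hom_ext (Idx.hom_ext (by
      simp [strataRing, RingHom.comp_assoc, Idx.map_str, Idx.toResidue_str])) }

theorem exists_stage_zero {i : Idx p} {x : i.Ring} (hx : i.toResidue x = 0) :
    ∃ (j : Idx p) (h : i ≤ j), Idx.map h x = 0 := by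
  classical
  obtain ⟨n, q, hq⟩ := IsLocalization.Away.surj (Ideal.Quotient.mk (Ideal.span (i.F : Set A)) i.g) x
  obtain ⟨a, rfl⟩ := Ideal.Quotient.mk_surjective q
  have hq' : x * i.str i.g ^ n = i.str a := by simpa [Idx.str] using hq
  have ha : a ∈ p := by
    rw [← Ideal.algebraMap_residueField_eq_zero, ← i.toResidue_str, RingHom.comp_apply, ← hq', map_mul, hx, zero_mul]
  refine ⟨⟨i.g, i.hg, insert a i.F, by rw [Finset.coe_insert]; exact Set.insert_subset ha i.hF⟩,
    ⟨dvd_rfl, Finset.subset_insert _ _⟩, ?_⟩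
  set j : Idx p := ⟨i.g, i.hg, insert a i.F, by rw [Finset.coe_insert]; exact Set.insert_subset ha i.hF⟩
  have h : i ≤ j := ⟨dvd_rfl, Finset.subset_insert _ _⟩
  have he := congrArg (Idx.map h) hq'
  rw [map_mul, map_pow, ← RingHom.comp_apply, ← RingHom.comp_apply (Idx.map h), Idx.map_str,
    j.str_eq_zero (Finset.mem_insert_self a i.F)] at he
  exact ((Idx.isUnit_str (i := i) (j := j) dvd_rfl).pow n).mul_left_eq_zero.1 he

/-- The residue field is the colimit of the strata. -/
theorem nonempty_isColimit_strata : Nonempty (IsColimit (strataCocone p)) := by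
  have : ReflectsColimit (strataRing p) (forget CommRingCat.{u}) := reflectsColimit_of_reflectsIsomorphisms _ _
  refine ⟨isColimitOfReflects (forget CommRingCat.{u}) (Types.FilteredColimit.isColimitOf _ _
    (fun x => ?_) fun i j xi xj h => ?_)⟩
  · change p.ResidueField at x
    obtain ⟨a, ⟨b, hb⟩, hab⟩ := IsLocalization.exists_mk'_eq (nonZeroDivisors (A ⧸ p)) (x : p.ResidueField)
    obtain ⟨a, rfl⟩ := Ideal.Quotient.mk_surjective a
    obtain ⟨b, rfl⟩ := Ideal.Quotient.mk_surjective b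
    have hbp : b ∉ p := fun h => nonZeroDivisors.ne_zero hb (Ideal.Quotient.eq_zero_iff_mem.2 h)
    let i : Idx p := ⟨b, hbp, ∅, by simp⟩
    refine ⟨i, (i.str a * ↑(Idx.isUnit_str (i := i) (j := i) dvd_rfl).unit⁻¹ : i.Ring), ?_⟩
    show x = i.toResidue _
    have e : ∀ c, i.toResidue (i.str c) = algebraMap (A ⧸ p) p.ResidueField (Ideal.Quotient.mk p c) :=
      fun c => by rw [← RingHom.comp_apply, i.toResidue_str]; rfl
    rw [← hab, eq_comm, IsLocalization.eq_mk'_iff_mul_eq, ← e, ← e, ← map_mul, mul_assoc, IsUnit.val_inv_mul, mul_one]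
  · change i.toResidue xi = j.toResidue xj at h
    obtain ⟨k, hik, hjk⟩ := exists_ge_ge i j
    have hnat : ∀ {i k : Idx p} (h : i ≤ k) (z : i.Ring), k.toResidue (Idx.map h z) = i.toResidue z :=
      fun {i k} h z => DFunLike.congr_fun (show k.toResidue.comp (Idx.map h) = i.toResidue from
        Idx.hom_ext (by rw [RingHom.comp_assoc, Idx.map_str, Idx.toResidue_str, Idx.toResidue_str])) z
    obtain ⟨l, hkl, hl⟩ := exists_stage_zero p (x := Idx.map hik xi - Idx.map hjk xj)
      (by rw [map_sub, hnat, hnat, h, sub_self])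
    have hmap : ∀ {i : Idx p} (h₁ : i ≤ k) (z : i.Ring), Idx.map (h₁.trans hkl) z = Idx.map hkl (Idx.map h₁ z) :=
      fun {i} h₁ z => DFunLike.congr_fun (show Idx.map (h₁.trans hkl) = (Idx.map hkl).comp (Idx.map h₁) from
        Idx.hom_ext (by rw [RingHom.comp_assoc, Idx.map_str, Idx.map_str, Idx.map_str])) z
    refine ⟨l, homOfLE (hik.trans hkl), homOfLE (hjk.trans hkl), ?_⟩
    show Idx.map (hik.trans hkl) xi = Idx.map (hjk.trans hkl) xj
    rw [hmap hik, hmap hjk, ← sub_eq_zero, ← map_sub, hl]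

end Strata

theorem exists_stratum_spec {P H : MorphismProperty Scheme.{u}} [P.RespectsIso] [P.IsStableUnderBaseChange]
    [H.IsStableUnderBaseChange] (hD : LimSch.Descends.{u} P H) {A : Type u} [CommRing A] (p : Ideal A) [p.IsPrime]
    {X Y : Scheme.{u}} (f : X ⟶ Y) (g : Y ⟶ Spec (CommRingCat.of A)) [QuasiCompact g]
    [QuasiCompact f] [QuasiSeparated f] (hH : H f)
    (h : P (fib f g (⟨p, inferInstance⟩ : PrimeSpectrum A))) :
    ∃ (i : Idx p) (X' Y' : Scheme.{u}) (f' : X' ⟶ Y') (g' : Y' ⟶ Spec (CommRingCat.of i.Ring)) (qX : X' ⟶ X)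
      (qY : Y' ⟶ Y), IsPullback qY g' g (Spec.map (CommRingCat.ofHom i.str)) ∧ IsPullback qX f' f qY ∧ P f' := by
  obtain ⟨hcol⟩ := nonempty_isColimit_strata p
  let D := (strataRing p).op ⋙ Scheme.Spec
  have hlim : IsLimit (Scheme.Spec.mapCone (strataCocone p).op) := isLimitOfPreserves Scheme.Spec hcol.op
  set c := Scheme.Spec.mapCone (strataCocone p).op
  have : ∀ (i j : (Idx p)ᵒᵖ) (a : i ⟶ j), IsAffineHom (D.map a) := fun i j a => by
    have : IsAffine (D.obj i) := by dsimp [D]; infer_instance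
    have : IsAffine (D.obj j) := by dsimp [D]; infer_instance
    infer_instance
  let i₀ : Idx p := Classical.arbitrary _
  let ι₀ : Spec (CommRingCat.of i₀.Ring) ⟶ Spec (CommRingCat.of A) := Spec.map (CommRingCat.ofHom i₀.str)
  let Y₀ := pullback g ι₀
  let g₀ : Y₀ ⟶ D.obj (Opposite.op i₀) := pullback.snd g ι₀
  let f₀ := pullback.snd f (pullback.fst g ι₀)
  let π₀ : c.pt ⟶ Spec (CommRingCat.of i₀.Ring) := c.π.app (Opposite.op i₀)
  have hY₀ := IsPullback.of_hasPullback g ι₀
  have hX₀ := IsPullback.of_hasPullback f (pullback.fst g ι₀)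
  let Yκ := pullback g₀ (c.π.app (Opposite.op i₀))
  have hY : IsPullback (pullback.fst g₀ (c.π.app (Opposite.op i₀))) (pullback.snd g₀ _) g₀ _ :=
    IsPullback.of_hasPullback g₀ (c.π.app (Opposite.op i₀))
  have hX := IsPullback.of_hasPullback f₀ (pullback.fst g₀ (c.π.app (Opposite.op i₀)))
  have hXa := hX.paste_horiz hX₀
  have hYa := hY.paste_horiz hY₀
  let t : Spec (CommRingCat.of p.ResidueField) ⟶ Spec (CommRingCat.of A) :=
    Spec.map (CommRingCat.ofHom (algebraMap A p.ResidueField))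
  have ht : (c.π.app (Opposite.op i₀)) ≫ ι₀ = t := by
    show Spec.map (CommRingCat.ofHom i₀.toResidue) ≫ Spec.map (CommRingCat.ofHom i₀.str) = _
    rw [← Spec.map_comp, ← CommRingCat.ofHom_comp, i₀.toResidue_str]
  have hpt : t (IsLocalRing.closedPoint p.ResidueField) = (⟨p, inferInstance⟩ : PrimeSpectrum A) := by
    refine PrimeSpectrum.ext ?_
    show Ideal.comap (algebraMap A p.ResidueField) (IsLocalRing.maximalIdeal p.ResidueField) = p
    rw [IsLocalRing.maximalIdeal_eq_bot]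
    exact p.ker_algebraMap_residueField
  obtain ⟨⟨s', φ⟩, hφ⟩ : ∃ σ, σ = Scheme.SpecToEquivOfField p.ResidueField _ t := ⟨_, rfl⟩
  have hfac : Spec.map φ ≫ Scheme.fromSpecResidueField _ s' = t := by
    have h' := (Scheme.SpecToEquivOfField p.ResidueField _).symm_apply_apply t
    rw [← hφ] at h'
    exact h'
  have hs' : s' = (⟨p, inferInstance⟩ : PrimeSpectrum A) := by
    rw [← hpt, ← hfac]
    exact (Scheme.fromSpecResidueField_apply _ _).symm
  have hP : P (fib f g s') := hs' ▸ h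
  have hPκ : P (pullback.snd f₀ (pullback.fst g₀ (c.π.app (Opposite.op i₀)))) := by
    rw [ht, ← hfac] at hYa
    let u : Yκ ⟶ pullback g (Scheme.fromSpecResidueField _ s') :=
      pullback.lift (pullback.fst _ _ ≫ pullback.fst g ι₀) (pullback.snd _ _ ≫ Spec.map φ)
        (hYa.w.trans (Category.assoc _ _ _).symm)
    let v := (isPullback_fib f g s').lift (pullback.fst f₀ _ ≫ pullback.fst f (pullback.fst g ι₀))
      (pullback.snd f₀ (pullback.fst g₀ (c.π.app (Opposite.op i₀))) ≫ u)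
      (by rw [hXa.w, Category.assoc, pullback.lift_fst])
    have H : IsPullback v (pullback.snd f₀ (pullback.fst g₀ (c.π.app (Opposite.op i₀)))) (fib f g s') u :=
      IsPullback.of_right (by rw [IsPullback.lift_fst, pullback.lift_fst]; exact hXa)
        (IsPullback.lift_snd _ _ _ _) (isPullback_fib f g s')
    exact MorphismProperty.of_isPullback H hP
  have : QuasiCompact g₀ := inferInstanceAs (QuasiCompact (pullback.snd g ι₀))
  have : CompactSpace (D.obj (Opposite.op i₀)) := inferInstanceAs (CompactSpace ↥(Spec (CommRingCat.of i₀.Ring)))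
  have : CompactSpace Y₀ := QuasiCompact.compactSpace_of_compactSpace g₀
  obtain ⟨i, a, X', Y', f', g', pY, pX, h1, h2, hP'⟩ := hD.over D c hlim (Opposite.op i₀) f₀ g₀
    (pullback.snd f₀ (pullback.fst g₀ (c.π.app (Opposite.op i₀)))) (pullback.snd g₀ (c.π.app (Opposite.op i₀)))
    (pullback.fst g₀ (c.π.app (Opposite.op i₀))) _ hY hX (MorphismProperty.of_isPullback hX₀ hH) hPκ
  refine ⟨i.unop, X', Y', f', g', pX ≫ pullback.fst f _, pY ≫ pullback.fst g _, ?_, h2.paste_horiz hX₀, hP'⟩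
  have := h1.paste_horiz hY₀
  have e : D.map a ≫ ι₀ = Spec.map (CommRingCat.ofHom i.unop.str) := by
    show Spec.map (CommRingCat.ofHom (Idx.map a.unop.le)) ≫ Spec.map (CommRingCat.ofHom i₀.str) = _
    rw [← Spec.map_comp, ← CommRingCat.ofHom_comp, Idx.map_str]
  rwa [e] at this

/-- A property which descends along limits spreads from a fibre to a constructible stratum. -/
theorem exists_stratum {P H : MorphismProperty Scheme.{u}} [P.RespectsIso] [P.IsStableUnderBaseChange]
    [H.IsStableUnderBaseChange] (hD : LimSch.Descends.{u} P H) {X Y S : Scheme.{u}} [IsAffine S]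
    (f : X ⟶ Y) (g : Y ⟶ S) [QuasiCompact g]
    [QuasiCompact f] [QuasiSeparated f] (hH : H f) (s : S) (h : P (fib f g s)) :
    ∃ (S' X' Y' : Scheme.{u}) (ι : S' ⟶ S) (f' : X' ⟶ Y') (g' : Y' ⟶ S') (qX : X' ⟶ X) (qY : Y' ⟶ Y),
      IsAffine S' ∧ LocallyOfFinitePresentation ι ∧ IsPreimmersion ι ∧ QuasiCompact ι ∧ s ∈ Set.range ι ∧
      IsPullback qY g' g ι ∧ IsPullback qX f' f qY ∧ P f' := by
  let σ := S.isoSpec
  let q : PrimeSpectrum Γ(S, ⊤) := σ.hom s
  have hsq : IsPullback (𝟙 Y) (g ≫ σ.hom) g σ.inv := IsPullback.of_horiz_isIso ⟨by simp⟩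
  have hsqX : IsPullback (𝟙 X) f f (𝟙 Y) := IsPullback.of_horiz_isIso ⟨by simp⟩
  have hsσ : σ.inv q = s := by
    show (σ.hom ≫ σ.inv) s = s
    rw [Iso.hom_inv_id]; rfl
  have hfib : P (fib f (g ≫ σ.hom) q) := (prop_fib_baseChange_iff f g σ.inv hsq hsqX q).2 (hsσ ▸ h)
  obtain ⟨i, X', Y', f', g', qX, qY, hY, hX, hP⟩ := exists_stratum_spec hD q.asIdeal f (g ≫ σ.hom) hH hfib
  let ι := Spec.map (CommRingCat.ofHom i.str) ≫ σ.inv
  have h2 : IsOpenImmersion (Spec.map (CommRingCat.ofHom (algebraMap (Γ(S, ⊤) ⧸ Ideal.span (i.F : Set Γ(S, ⊤))) i.Ring))) :=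
    IsOpenImmersion.of_isLocalization (Ideal.Quotient.mk (Ideal.span (i.F : Set Γ(S, ⊤))) i.g)
  have h1 : LocallyOfFinitePresentation (Spec.map (CommRingCat.ofHom (Ideal.Quotient.mk (Ideal.span (i.F : Set Γ(S, ⊤)))))) :=
    (LocallyOfFinitePresentation.SpecMap_iff _).2 (RingHom.finitePresentation_algebraMap.2
      (Algebra.FinitePresentation.quotient ⟨i.F, rfl⟩) :
      (algebraMap Γ(S, ⊤) (Γ(S, ⊤) ⧸ Ideal.span (i.F : Set Γ(S, ⊤)))).FinitePresentation)
  have h3 : IsClosedImmersion (Spec.map (CommRingCat.ofHom (Ideal.Quotient.mk (Ideal.span (i.F : Set Γ(S, ⊤)))))) :=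
    IsClosedImmersion.spec_of_surjective _ Ideal.Quotient.mk_surjective
  have hι : ι = Spec.map (CommRingCat.ofHom (algebraMap (Γ(S, ⊤) ⧸ Ideal.span (i.F : Set Γ(S, ⊤))) i.Ring)) ≫
      Spec.map (CommRingCat.ofHom (Ideal.Quotient.mk (Ideal.span (i.F : Set Γ(S, ⊤))))) ≫ σ.inv := by
    rw [← Category.assoc, ← Spec.map_comp, ← CommRingCat.ofHom_comp]; rfl
  have hY' : IsPullback qY g' g ι := by
    simpa [ι] using hY.paste_horiz hsq
  refine ⟨_, X', Y', ι, f', g', qX, qY, inferInstance, hι ▸ inferInstance, hι ▸ inferInstance,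
    quasiCompact_of_compactSpace _, ?_, hY', hX, hP⟩
  refine ⟨PrimeSpectrum.comap i.toResidue ⊥, ?_⟩
  rw [← hsσ]
  show σ.inv (PrimeSpectrum.comap i.str (PrimeSpectrum.comap i.toResidue ⊥)) = σ.inv q
  rw [← PrimeSpectrum.comap_comp_apply, i.toResidue_str]
  congr 1
  exact PrimeSpectrum.ext q.asIdeal.ker_algebraMap_residueField

end Groth.Agent.ConstrFib
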