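import Mathlib
import Groth.Agent.ConstrFib.Stratum
import Groth.Agent.ConstrFib.Descend
import Groth.Agent.LimSch.DescendsCores
import Groth.Agent.ZMT.FiniteFactor

/-!
Constructibility of the locus of points over which the fibre morphism is finite.
-/

set_option autoImplicit false
set_option backward.isDefEq.respectTransparency.types false

universe u

open CategoryTheory Limits AlgebraicGeometry Topology

namespace Groth.Agent.ConstrFib

/-- A separated quasi-finite morphism to an affine scheme is an immersion into a finite finitely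
presented one. -/
theorem exists_finite_fp_factor_qf {X Y : Scheme.{u}} [IsAffine Y] (f : X ⟶ Y) [LocallyQuasiFinite f]
    [IsSeparated f] [LocallyOfFiniteType f] [QuasiCompact f] :
    ∃ (T : Scheme.{u}) (j : X ⟶ T) (π : T ⟶ Y),
      IsImmersion j ∧ QuasiCompact j ∧ IsFinite π ∧ LocallyOfFinitePresentation π ∧ j ≫ π = f := by
  obtain ⟨T, j, π, hj, hjq, hπ, hjπ⟩ := ZMT.exists_openImmersion_finite f
  have : IsAffine T := isAffine_of_isAffineHom π
  algebraize [π.appTop.hom]
  have : Module.Finite Γ(Y, ⊤) Γ(T, ⊤) := hπ.finite_app (U := ⊤) (isAffineOpen_top Y)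
  obtain ⟨C', _, _, h, hC', hfp, hh⟩ := exists_finite_finitePresentation Γ(Y, ⊤) Γ(T, ⊤)
  let c : T ⟶ Spec (CommRingCat.of C') := T.isoSpec.hom ≫ Spec.map (CommRingCat.ofHom h.toRingHom)
  have : IsClosedImmersion (Spec.map (CommRingCat.ofHom h.toRingHom)) := IsClosedImmersion.spec_of_surjective _ hh
  let π' : Spec (CommRingCat.of C') ⟶ Y := Spec.map (CommRingCat.ofHom (algebraMap Γ(Y, ⊤) C')) ≫ Y.isoSpec.inv
  have hπ' : IsFinite (Spec.map (CommRingCat.ofHom (algebraMap Γ(Y, ⊤) C'))) :=
    (IsFinite.SpecMap_iff _).2 (RingHom.finite_algebraMap.2 hC')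
  have hπ'' : LocallyOfFinitePresentation (Spec.map (CommRingCat.ofHom (algebraMap Γ(Y, ⊤) C'))) :=
    (LocallyOfFinitePresentation.SpecMap_iff _).2 (RingHom.finitePresentation_algebraMap.2 hfp)
  have hcπ : c ≫ π' = π := by
    simp only [c, π', Category.assoc]
    rw [← Spec.map_comp_assoc, ← CommRingCat.ofHom_comp,
      show h.toRingHom.comp (algebraMap Γ(Y, ⊤) C') = π.appTop.hom from h.comp_algebraMap,
      CommRingCat.ofHom_hom, Scheme.isoSpec_hom, ← Scheme.toSpecΓ_naturality_assoc, Scheme.toSpecΓ_isoSpec_inv,
      Category.comp_id]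
  exact ⟨_, j ≫ c, π', inferInstance, inferInstance, inferInstance, inferInstance, by rw [Category.assoc, hcπ, hjπ]⟩

/-- The finite locus of a separated quasi-finite morphism with affine target. -/
theorem isLocallyConstructible_finite_core {X Y S : Scheme.{u}} (f : X ⟶ Y) (g : Y ⟶ S) [IsAffine Y]
    [LocallyQuasiFinite f] [IsSeparated f]
    [LocallyOfFinitePresentation g] [QuasiCompact g] [QuasiSeparated g]
    [LocallyOfFinitePresentation f] [QuasiCompact f] :
    IsLocallyConstructible {s : S | IsFinite (fib f g s)} := by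
  obtain ⟨Z, j, π, hj, hjq, hπ, hπfp, hjπ⟩ := exists_finite_fp_factor_qf f
  have : LocallyOfFinitePresentation (j ≫ π) := hjπ ▸ inferInstance
  have : LocallyOfFinitePresentation j := Groth.Agent.AlgSpc.lfp_of_comp j π
  have hrj : IsLocallyConstructible (Set.range j) := by
    rw [← Set.image_univ]; exact j.isLocallyConstructible_image .univ
  convert! isLocallyConstructible_setOf_isClosed (π ≫ g) hrj using 1
  ext s
  rw [Set.mem_ofPred_eq, Set.mem_ofPred_eq, ← isClosed_range_fib_iff]
  have hjs := isPullback_fib j (π ≫ g) s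
  have hπs := isPullback_fib π g s
  have hbig := hjs.paste_vert hπs
  have hf := isPullback_fib f g s
  rw [hjπ] at hbig
  have : IsImmersion (fib j (π ≫ g) s) := MorphismProperty.of_isPullback hjs inferInstance
  have : IsFinite (fib π g s) := MorphismProperty.of_isPullback hπs inferInstance
  have key : IsFinite (fib f g s) ↔ IsFinite (fib j (π ≫ g) s ≫ fib π g s) := by
    rw [← hbig.isoIsPullback_hom_snd _ _ hf]
    exact (MorphismProperty.cancel_left_of_respectsIso (P := @IsFinite) (hbig.isoIsPullback _ _ hf).hom (fib f g s)).symm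
  rw [key]
  constructor
  · intro h
    have : IsFinite (fib j (π ≫ g) s) :=
      MorphismProperty.of_postcomp (W := @IsFinite) (W' := @IsSeparated) _ (fib π g s) inferInstance h
    exact (fib j (π ≫ g) s).isClosedMap.isClosed_range
  · intro h
    have : IsClosedImmersion (fib j (π ≫ g) s) := IsClosedImmersion.of_isPreimmersion _ h
    infer_instance

/-- The finite locus over an affine base for an affine target. -/
theorem isConstructible_finite_affine {X Y S : Scheme.{u}} (f : X ⟶ Y) (g : Y ⟶ S) [IsAffine S] [IsAffine Y]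
    [LocallyOfFinitePresentation g]
    [LocallyOfFinitePresentation f] [QuasiCompact f] [QuasiSeparated f] :
    IsConstructible {s : S | IsFinite (fib f g s)} := by
  refine isConstructible_of_local fun s => ?_
  by_cases hs : IsSeparated (fib f g s) ∧ LocallyQuasiFinite (fib f g s)
  · have hD : LimSch.Descends.{u} (@IsSeparated ⊓ @LocallyQuasiFinite) (⊤ ⊓ @LocallyOfFinitePresentation) :=
      descends_inf LimSch.descends_isSeparated descends_locallyQuasiFinite
    have : ((⊤ : MorphismProperty Scheme.{u}) ⊓ @LocallyOfFinitePresentation).IsStableUnderBaseChange :=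
      inferInstance
    obtain ⟨S', X', Y', ι, f', g', qX, qY, _, hfp, hpre, hqc, hmem, hY, hX, hsep, hlqf⟩ :=
      exists_stratum (P := @IsSeparated ⊓ @LocallyQuasiFinite) hD f g ⟨trivial, inferInstance⟩ s hs
    have : IsSeparated f' := hsep
    have : LocallyQuasiFinite f' := hlqf
    have : LocallyOfFinitePresentation g' := MorphismProperty.of_isPullback hY inferInstance
    have : LocallyOfFinitePresentation f' := MorphismProperty.of_isPullback hX inferInstance
    have : QuasiCompact f' := MorphismProperty.of_isPullback hX inferInstance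
    have : IsAffineHom g' := MorphismProperty.of_isPullback hY inferInstance
    have : IsAffine Y' := isAffine_of_isAffineHom g'
    refine ⟨Set.range ι, hmem, ?_, ?_⟩
    · rw [← Set.image_univ]
      exact (ι.isLocallyConstructible_image .univ).isConstructible
    · have himg : {s : S | IsFinite (fib f g s)} ∩ Set.range ι = ι '' {t | IsFinite (fib f' g' t)} := by
        ext s
        constructor
        · rintro ⟨h, t, rfl⟩
          exact ⟨t, (prop_fib_baseChange_iff (P := @IsFinite) f g ι hY hX t).2 h, rfl⟩
        · rintro ⟨t, h, rfl⟩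
          exact ⟨(prop_fib_baseChange_iff (P := @IsFinite) f g ι hY hX t).1 h, t, rfl⟩
      rw [himg]
      exact (ι.isLocallyConstructible_image (isLocallyConstructible_finite_core f' g')).isConstructible
  · refine ⟨{t | IsSeparated (fib f g t) ∧ LocallyQuasiFinite (fib f g t)}ᶜ, hs, ?_, ?_⟩
    · exact (Groth.Agent.LimSch.isLocallyConstructible_compl
        ((isLocallyConstructible_setOf_isSeparated f g).inter
          (isLocallyConstructible_setOf_locallyQuasiFinite f g))).isConstructible
    · convert! (IsConstructible.empty : IsConstructible (∅ : Set S)) using 1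
      refine Set.eq_empty_of_forall_notMem fun t ⟨ht, hn⟩ => hn ?_
      have : IsFinite (fib f g t) := ht
      exact ⟨(inferInstance : IsSeparated (fib f g t)), (inferInstance : LocallyQuasiFinite (fib f g t))⟩

/-- The finite locus is locally constructible. -/
theorem isLocallyConstructible_setOf_isFinite {X Y S : Scheme.{u}} (f : X ⟶ Y) (g : Y ⟶ S)
    [LocallyOfFinitePresentation g] [QuasiCompact g]
    [LocallyOfFinitePresentation f] [QuasiCompact f] [QuasiSeparated f] :
    IsLocallyConstructible {s : S | IsFinite (fib f g s)} := by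
  refine IsLocallyConstructible.of_isOpenCover
    (TopologicalSpace.IsOpenCover.mk (iSup_affineOpens_eq_top S)
      : TopologicalSpace.IsOpenCover fun U : S.affineOpens => U.1) (fun U => ?_)
  have : IsAffine U.1.toScheme := U.2
  have hY := IsPullback.of_hasPullback g U.1.ι
  have hX := IsPullback.of_hasPullback f (pullback.fst g U.1.ι)
  let g' := pullback.snd g U.1.ι
  let f' := pullback.snd f (pullback.fst g U.1.ι)
  have heq : (Subtype.val ⁻¹' {s : S | IsFinite (fib f g s)} : Set U.1) = {t | IsFinite (fib f' g' t)} :=
    Set.ext fun t => (prop_fib_baseChange_iff (P := @IsFinite) f g U.1.ι hY hX t).symm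
  refine (congrArg IsLocallyConstructible heq).mpr ?_
  have : CompactSpace ↥(pullback g U.1.ι) := QuasiCompact.compactSpace_of_compactSpace g'
  obtain ⟨w, hw, hcov⟩ := isCompact_iff_finite_and_eq_biUnion_affineOpens (U := (⊤ : Scheme.Opens (pullback g U.1.ι))).mp
    isCompact_univ
  have : Finite w := hw.to_subtype
  have hcov' : iSup (fun W : w => (W.1.1 : Scheme.Opens (pullback g U.1.ι))) = ⊤ := by rw [hcov, iSup_subtype']
  have key : ∀ t, IsFinite (fib f' g' t) ↔ ∀ W : w, IsFinite (fib (f' ∣_ W.1.1) (W.1.1.ι ≫ g') t) := by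
    intro t
    let a := pullback.fst g' (U.1.toScheme.fromSpecResidueField t)
    rw [IsZariskiLocalAtTarget.iff_of_iSup_eq_top (P := @IsFinite) (fun W : w => a ⁻¹ᵁ W.1.1)
      (by rw [← Scheme.Hom.preimage_iSup, hcov', Scheme.Hom.preimage_top])]
    refine forall_congr' fun W => ?_
    have hO := (isPullback_morphismRestrict a W.1.1).paste_vert (IsPullback.of_hasPullback g' _)
    refine prop_iff_of_isPullback ((isPullback_morphismRestrict (fib f' g' t) _).flip.paste_horiz (isPullback_fib f' g' t))
      ((isPullback_fib (f' ∣_ W.1.1) (W.1.1.ι ≫ g') t).paste_horiz (isPullback_morphismRestrict f' W.1.1).flip)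
      hO.isoPullback ?_
    rw [← Category.assoc, IsPullback.isoPullback_hom_fst, morphismRestrict_ι]
  have hset : {t | IsFinite (fib f' g' t)} = ⋂ W : w, {t | IsFinite (fib (f' ∣_ W.1.1) (W.1.1.ι ≫ g') t)} :=
    Set.ext fun t => by simp only [Set.mem_iInter, Set.mem_ofPred_eq]; exact key t
  rw [hset]
  refine (IsConstructible.iInter fun W => ?_).isLocallyConstructible
  have : IsAffine W.1.1.toScheme := W.1.2
  have : QuasiSeparated (f' ∣_ W.1.1) := MorphismProperty.of_isPullback (isPullback_morphismRestrict f' W.1.1).flip inferInstance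
  exact isConstructible_finite_affine (f' ∣_ W.1.1) (W.1.1.ι ≫ g')

end Groth.Agent.ConstrFib
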