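import Mathlib
import Groth.Agent.GenFree.Scheme
import Groth.Agent.ConstrSets.Basic
import Groth.Agent.FpqcDescent.ReducedSub
import Groth.Agent.FlatMorLib.Approx
import Groth.Agent.EtLocalLib.StalkCrit
import Groth.Agent.AlgSpc.LfpCancel

/-!
Local constructibility of a pointwise condition on fibres: if the condition only depends on the fibre
through the point and cuts out a constructible set for flat morphisms of noetherian schemes, then it cuts out
a locally constructible set for every morphism locally of finite presentation.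
-/

set_option autoImplicit false
set_option backward.isDefEq.respectTransparency.types false

universe u

open CategoryTheory Limits AlgebraicGeometry Topology

namespace Groth.Agent.ConstrFib

/-- A pointwise condition on fibres. -/
abbrev PointProp := ∀ {X S : Scheme.{u}}, (X ⟶ S) → X → Prop

variable (Φ : PointProp.{u})
  (hbc : ∀ {X S X' S' : Scheme.{u}} {f : X ⟶ S} {f' : X' ⟶ S'} {g' : X' ⟶ X} {g : S' ⟶ S}
    [LocallyOfFinitePresentation f], IsPullback g' f' f g → ∀ x' : X', Φ f' x' ↔ Φ f (g' x'))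
  (hoi : ∀ {V X S : Scheme.{u}} (j : V ⟶ X) (f : X ⟶ S) [IsOpenImmersion j] [LocallyOfFinitePresentation f]
    (v : V), Φ (j ≫ f) v ↔ Φ f (j v))
  (hflat : ∀ {X S : Scheme.{u}} (f : X ⟶ S) [Flat f] [LocallyOfFinitePresentation f] [IsNoetherian X]
    [IsNoetherian S], IsConstructible {x : X | Φ f x})

include hbc hoi hflat in
theorem isConstructible_pointLocus_noetherian {X S : Scheme.{u}} (f : X ⟶ S) [IsNoetherian S]
    [LocallyOfFiniteType f] [QuasiCompact f] : IsConstructible {x : X | Φ f x} := by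
  have : LocallyOfFinitePresentation f := EtLocalLib.locallyOfFinitePresentation_of_noetherian _
  have : IsLocallyNoetherian X := LocallyOfFiniteType.isLocallyNoetherian f
  have : CompactSpace X := QuasiCompact.compactSpace_of_compactSpace f
  have : IsNoetherian X := ⟨⟩
  suffices h : ∀ C : Set S, IsClosed C → IsConstructible ({x : X | Φ f x} ∩ f ⁻¹' C) by
    simpa using h Set.univ isClosed_univ
  intro C hC
  refine ConstrSets.closed_induction (p := fun C => IsConstructible ({x : X | Φ f x} ∩ f ⁻¹' C))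
    (by simp) (fun A B _ _ hA hB => by rw [Set.preimage_union, Set.inter_union_distrib_left]; exact hA.union hB) ?_ hC
  intro C hC hirr ih
  let T := (Scheme.IdealSheafData.vanishingIdeal ⟨C, hC⟩).subscheme
  let ι : T ⟶ S := (Scheme.IdealSheafData.vanishingIdeal ⟨C, hC⟩).subschemeι
  have hι : Set.range ι = C := by
    rw [Scheme.IdealSheafData.range_subschemeι, Scheme.IdealSheafData.coe_support_vanishingIdeal]
    rfl
  have : IsLocallyNoetherian T := LocallyOfFiniteType.isLocallyNoetherian ι
  have : CompactSpace T := QuasiCompact.compactSpace_of_compactSpace ι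
  have : IsNoetherian T := ⟨⟩
  have : Nonempty T := by
    obtain ⟨c, hc⟩ := hirr.nonempty
    obtain ⟨t, -⟩ := hι.ge hc
    exact ⟨t⟩
  let f' := pullback.snd f ι
  let g' := pullback.fst f ι
  have hsq := IsPullback.of_hasPullback f ι
  have : IsLocallyNoetherian (pullback f ι) := LocallyOfFiniteType.isLocallyNoetherian g'
  have : CompactSpace ↥(pullback f ι) := QuasiCompact.compactSpace_of_compactSpace g'
  have : IsNoetherian (pullback f ι) := ⟨⟩
  obtain ⟨U, hUd, hfl, -⟩ := GenFree.exists_dense_flat f'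
  let V := f' ⁻¹ᵁ U
  have hsU : IsPullback V.ι (f' ∣_ U) f' U.ι := (isPullback_morphismRestrict f' U).flip
  have : LocallyOfFinitePresentation (f' ∣_ U) := MorphismProperty.of_isPullback hsU inferInstance
  have : IsLocallyNoetherian U.toScheme := LocallyOfFiniteType.isLocallyNoetherian U.ι
  have : CompactSpace U.toScheme := isCompact_iff_compactSpace.1 (TopologicalSpace.NoetherianSpace.isCompact (U : Set T))
  have : IsNoetherian U.toScheme := ⟨⟩
  have : IsLocallyNoetherian V.toScheme := LocallyOfFiniteType.isLocallyNoetherian V.ι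
  have : CompactSpace V.toScheme :=
    isCompact_iff_compactSpace.1 (TopologicalSpace.NoetherianSpace.isCompact (V : Set ↥(pullback f ι)))
  have : IsNoetherian V.toScheme := ⟨⟩
  have := hfl
  have hloc : IsConstructible (V.ι '' {v : V.toScheme | Φ (f' ∣_ U) v}) :=
    (hflat (f' ∣_ U)).image_of_isOpenEmbedding V.ι.isOpenEmbedding
      (ConstrSets.isRetrocompact_of_isConstructible (ConstrSets.isConstructible_of_isOpen
        V.ι.isOpenEmbedding.isOpen_range))
  have hemb : IsClosedEmbedding g' := g'.isClosedEmbedding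
  let D := ι '' (U : Set T)ᶜ
  have hD : IsClosed D := ι.isClosedEmbedding.isClosedMap _ U.2.isClosed_compl
  have hDC : D ⊂ C := by
    refine ⟨(Set.image_subset_range _ _).trans hι.le, fun h => ?_⟩
    obtain ⟨t, ht⟩ := hUd.nonempty
    obtain ⟨t', ht', he⟩ := h (hι.le ⟨t, rfl⟩)
    exact ht' (ι.isClosedEmbedding.injective he ▸ ht)
  have key : ({x : X | Φ f x} ∩ f ⁻¹' C) =
      g' '' (V.ι '' {v : V.toScheme | Φ (f' ∣_ U) v}) ∪ ({x : X | Φ f x} ∩ f ⁻¹' D) := by
    ext x
    constructor
    · rintro ⟨hx, hxC⟩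
      obtain ⟨t, ht⟩ := hι.ge hxC
      obtain ⟨w, rfl, hw⟩ := Scheme.exists_preimage_of_isPullback hsq x t ht.symm
      by_cases htU : t ∈ U
      · have hwV : w ∈ V := by show f' w ∈ U; rw [hw]; exact htU
        refine Or.inl ⟨w, ⟨⟨w, hwV⟩, ?_, rfl⟩, rfl⟩
        rw [Set.mem_ofPred_eq, hbc hsU, hbc hsq]
        exact hx
      · exact Or.inr ⟨hx, t, htU, ht⟩
    · rintro (⟨w, ⟨v, hv, rfl⟩, rfl⟩ | ⟨hx, hxD⟩)
      · rw [Set.mem_ofPred_eq, hbc hsU, hbc hsq] at hv
        refine ⟨hv, ?_⟩
        show f (g' (V.ι v)) ∈ C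
        rw [← Scheme.Hom.comp_apply, hsq.w]
        exact hι.le ⟨_, rfl⟩
      · exact ⟨hx, hDC.1 hxD⟩
  rw [key]
  exact (hloc.image_of_isClosedEmbedding hemb
    (ConstrSets.isRetrocompact_of_isConstructible (ConstrSets.isConstructible_of_isOpen hemb.isClosed_range.isOpen_compl))).union
    (ih D hD hDC)

include hbc hoi hflat in
theorem isConstructible_pointLocus_affine {X S : Scheme.{u}} (f : X ⟶ S) [IsAffine X] [IsAffine S]
    [LocallyOfFinitePresentation f] : IsConstructible {x : X | Φ f x} := by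
  obtain ⟨X₀, S₀, f₀, g, g', _, _, hpb, hS₀, hf₀⟩ := FlatMorLib.Approx.exists_noetherian_model f
  have : IsNoetherianRing Γ(S₀, ⊤) := Algebra.FiniteType.isNoetherianRing ℤ Γ(S₀, ⊤)
  have : IsLocallyNoetherian S₀ := isLocallyNoetherian_of_affine_cover (S := fun _ : Unit => ⟨⊤, isAffineOpen_top S₀⟩)
    (by simp) fun _ => this
  have : IsNoetherian S₀ := ⟨⟩
  have := hf₀
  have : LocallyOfFinitePresentation f₀ := EtLocalLib.locallyOfFinitePresentation_of_noetherian _
  have heq : {x : X | Φ f x} = g' ⁻¹' {x : X₀ | Φ f₀ x} := Set.ext fun x => hbc hpb x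
  rw [heq]
  exact Scheme.Hom.isConstructible_preimage _ (isConstructible_pointLocus_noetherian Φ hbc hoi hflat f₀)

include hbc hoi hflat in
theorem isLocallyConstructible_pointLocus {X S : Scheme.{u}} (f : X ⟶ S) [LocallyOfFinitePresentation f] :
    IsLocallyConstructible {x : X | Φ f x} := by
  intro x
  obtain ⟨U, hU, hxU, -⟩ := exists_isAffineOpen_mem_and_subset (x := f x) (U := ⊤) trivial
  obtain ⟨V, hV, hxV, hle⟩ := exists_isAffineOpen_mem_and_subset (x := x) (U := f ⁻¹ᵁ U) hxU
  refine ⟨V, V.2.mem_nhds hxV, V.2, ?_⟩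
  have : IsAffine V.toScheme := hV
  have : IsAffine U.toScheme := hU
  let h := f.resLE U V hle
  have hh : h ≫ U.ι = V.ι ≫ f := Scheme.Hom.resLE_comp_ι _ _
  have : LocallyOfFinitePresentation (h ≫ U.ι) := by rw [hh]; infer_instance
  have : LocallyOfFinitePresentation h := Groth.Agent.AlgSpc.lfp_of_comp h U.ι
  have hsq : IsPullback (𝟙 _) h (h ≫ U.ι) U.ι := by
    simpa using (IsPullback.of_id_fst (f := h)).paste_vert (IsKernelPair.id_of_mono U.ι)
  have heq : (Subtype.val ⁻¹' {x : X | Φ f x} : Set V) = {v : V.toScheme | Φ h v} := by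
    ext v
    rw [Set.mem_preimage, Set.mem_ofPred_eq, Set.mem_ofPred_eq, hbc hsq v]
    show Φ f (V.ι v) ↔ Φ (h ≫ U.ι) v
    rw [hh, hoi]
  exact (congrArg IsConstructible heq).mpr (isConstructible_pointLocus_affine Φ hbc hoi hflat h)

end Groth.Agent.ConstrFib
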