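import Mathlib
import Groth.Agent.ConstrFib.PointLocus
import Groth.Agent.ConstrFib.Immersion
import Groth.Agent.FlatOverBC.CMScheme
import Groth.Agent.SmoothPt.Basic
import Groth.Agent.S4961

/-!
Constructibility of the loci where the fibre is Cohen–Macaulay, resp. smooth, at the point.
-/

set_option autoImplicit false
set_option backward.isDefEq.respectTransparency.types false

universe u

open CategoryTheory Limits AlgebraicGeometry Topology IsLocalRing

namespace Groth.Agent.ConstrFib

variable {X S : Scheme.{u}}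

/-- The fibre through `x` is Cohen–Macaulay at `x`, read on the quotient of the stalk. -/
def CMPt : PointProp.{u} := fun {X S} f x =>
  LocCoh.IsCohenMacaulayLocalRing (X.presheaf.stalk x ⧸ (maximalIdeal (S.presheaf.stalk (f x))).map (f.stalkMap x).hom)

theorem cmPt_iff (f : X ⟶ S) (x : X) :
    CMPt f x ↔ LocCoh.IsCohenMacaulayLocalRing ((f.fiber (f x)).presheaf.stalk (f.asFiber x)) := by
  obtain ⟨e⟩ := FlatLocalDepth.nonempty_asFiber_stalk_equiv f x
  exact ⟨fun h => @FlatLocalDepth.isCohenMacaulayLocalRing_of_ringEquiv _ _ _ _ h e,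
    fun h => @FlatLocalDepth.isCohenMacaulayLocalRing_of_ringEquiv _ _ _ _ h e.symm⟩

theorem cmPt_comp_iff {V : Scheme.{u}} (j : V ⟶ X) (f : X ⟶ S) [IsOpenImmersion j] (v : V) :
    CMPt (j ≫ f) v ↔ CMPt f (j v) := by
  let e := (asIso (j.stalkMap v)).commRingCatIsoToRingEquiv
  have hI : (maximalIdeal (S.presheaf.stalk ((j ≫ f) v))).map ((j ≫ f).stalkMap v).hom =
      ((maximalIdeal (S.presheaf.stalk (f (j v)))).map (f.stalkMap (j v)).hom).map e.toRingHom := by
    rw [Ideal.map_map, Scheme.Hom.stalkMap_comp]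
    rfl
  let q := Ideal.quotientEquiv _ _ e hI
  exact ⟨fun h => @FlatLocalDepth.isCohenMacaulayLocalRing_of_ringEquiv _ _ _ _ h q.symm,
    fun h => @FlatLocalDepth.isCohenMacaulayLocalRing_of_ringEquiv _ _ _ _ h q⟩

/-- The locus where the fibre is Cohen–Macaulay is locally constructible. -/
theorem isLocallyConstructible_cmPt (f : X ⟶ S) [LocallyOfFinitePresentation f] :
    IsLocallyConstructible {x : X | CMPt f x} := by
  refine isLocallyConstructible_pointLocus CMPt (fun {X S X' S' f f' g' g} _ hc x' => ?_)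
    (fun j f _ _ v => cmPt_comp_iff j f v) (fun {X S} f _ _ _ _ => ?_) f
  · have : LocallyOfFiniteType f' := MorphismProperty.of_isPullback hc inferInstance
    exact FlatOverBC.isCohenMacaulay_fibreQuot_baseChange_iff hc x' (FlatOverBC.isLocallyNoetherian_fiber f _)
      (FlatLocalDepth.isNoetherianRing_fibre_quotient f' x' (FlatOverBC.isLocallyNoetherian_fiber f' _))
      (Or.inl inferInstance)
  · have heq : {x : X | CMPt f x} = {x : X | MoreMor.IsCMAt f x} := Set.ext fun x =>
      ⟨fun h => (FlatLocalDepth.isCMAt_iff f x).2 ⟨Flat.stalkMap f x, h⟩,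
        fun h => ((FlatLocalDepth.isCMAt_iff f x).1 h).2⟩
    rw [heq]
    exact ConstrSets.isConstructible_of_isOpen (S4961.result f)

/-- The fibre through `x` is smooth at `x`. -/
def SmPt : PointProp.{u} := fun f x =>
  ∀ [LocallyOfFinitePresentation (f.fiberToSpecResidueField (f x))],
    f.asFiber x ∈ (f.fiberToSpecResidueField (f x)).smoothLocus

theorem smPt_iff_of_fiberι (f : X ⟶ S) [LocallyOfFinitePresentation f] (x : X) (y : S)
    [LocallyOfFinitePresentation (f.fiberToSpecResidueField y)]
    (w : f.fiber y) (hw : f.fiberι y w = x) (hy : f x = y) :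
    SmPt f x ↔ w ∈ (f.fiberToSpecResidueField y).smoothLocus := by
  subst hy
  obtain rfl : w = f.asFiber x :=
    (f.fiberι (f x)).isEmbedding.injective (hw.trans (Scheme.Hom.fiberι_asFiber f x).symm)
  exact ⟨fun h => h, fun h _ => h⟩

theorem smPt_baseChange {X' S' : Scheme.{u}} {f : X ⟶ S} {f' : X' ⟶ S'} {g' : X' ⟶ X} {g : S' ⟶ S}
    [LocallyOfFinitePresentation f] (hc : IsPullback g' f' f g) (x' : X') :
    SmPt f' x' ↔ SmPt f (g' x') := by
  have : LocallyOfFinitePresentation f' := MorphismProperty.of_isPullback hc inferInstance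
  have hl : ∀ y, LocallyOfFinitePresentation (f.fiberToSpecResidueField y) := fun y =>
    inferInstanceAs (LocallyOfFinitePresentation (pullback.snd f _))
  have hl' : ∀ y, LocallyOfFinitePresentation (f'.fiberToSpecResidueField y) := fun y =>
    inferInstanceAs (LocallyOfFinitePresentation (pullback.snd f' _))
  let ρ := Spec.map (g.residueFieldMap (f' x'))
  have hρ : ρ ≫ S.fromSpecResidueField (g (f' x')) = S'.fromSpecResidueField (f' x') ≫ g :=
    Scheme.Hom.SpecMap_residueFieldMap_fromSpecResidueField g (f' x')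
  have o := (IsPullback.of_hasPullback f' (S'.fromSpecResidueField (f' x'))).paste_horiz hc
  let v : f'.fiber (f' x') ⟶ f.fiber (g (f' x')) :=
    pullback.lift (pullback.fst f' (S'.fromSpecResidueField (f' x')) ≫ g')
      (pullback.snd f' (S'.fromSpecResidueField (f' x')) ≫ ρ)
      (o.w.trans ((congrArg (pullback.snd f' (S'.fromSpecResidueField (f' x')) ≫ ·) hρ.symm).trans
        (Category.assoc _ _ _).symm))
  have hvfst : v ≫ pullback.fst f (S.fromSpecResidueField (g (f' x'))) =
      pullback.fst f' (S'.fromSpecResidueField (f' x')) ≫ g' := pullback.lift_fst _ _ _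
  have sq : IsPullback v (f'.fiberToSpecResidueField (f' x')) (f.fiberToSpecResidueField (g (f' x'))) ρ := by
    refine IsPullback.of_right ?_ (pullback.lift_snd _ _ _) (IsPullback.of_hasPullback f _)
    rw [hvfst, hρ]
    exact o
  have hflat : Flat ρ := (HasRingHomProperty.Spec_iff (P := @Flat)).2 <| by
    algebraize [(g.residueFieldMap (f' x')).hom]
    exact RingHom.flat_algebraMap_iff.2 inferInstance
  have hv : f.fiberι (g (f' x')) (v (f'.asFiber x')) = g' x' := by
    rw [← Scheme.Hom.comp_apply]
    exact (congr($hvfst (f'.asFiber x'))).trans (congrArg g' (Scheme.Hom.fiberι_asFiber f' x'))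
  rw [smPt_iff_of_fiberι f' x' (f' x') (f'.asFiber x') (Scheme.Hom.fiberι_asFiber f' x') rfl,
    smPt_iff_of_fiberι f (g' x') (g (f' x')) (v (f'.asFiber x')) hv congr($(hc.w) x'),
    SmoothPt.smoothLocus_baseChange (f.fiberToSpecResidueField (g (f' x'))) sq (Or.inr hflat)]
  exact Iff.rfl

theorem mem_smoothLocus_comp_iff {U T Z : Scheme.{u}} (j : U ⟶ T) [IsOpenImmersion j] (h : T ⟶ Z)
    [LocallyOfFinitePresentation h] (w : U) : w ∈ (j ≫ h).smoothLocus ↔ j w ∈ h.smoothLocus := by
  rw [Scheme.Hom.mem_smoothLocus, Scheme.Hom.mem_smoothLocus, Scheme.Hom.stalkMap_comp]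
  have : (RingHom.toMorphismProperty RingHom.FormallySmooth.{u, u}).RespectsIso :=
    RingHom.toMorphismProperty_respectsIso_iff.mp RingHom.FormallySmooth.respectsIso
  exact MorphismProperty.cancel_right_of_respectsIso (RingHom.toMorphismProperty RingHom.FormallySmooth)
    (h.stalkMap (j w)) (j.stalkMap w)

theorem smPt_comp_iff {V : Scheme.{u}} (j : V ⟶ X) (f : X ⟶ S) [IsOpenImmersion j] [LocallyOfFinitePresentation f]
    (v : V) : SmPt (j ≫ f) v ↔ SmPt f (j v) := by
  have hl : ∀ y, LocallyOfFinitePresentation (f.fiberToSpecResidueField y) := fun y =>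
    inferInstanceAs (LocallyOfFinitePresentation (pullback.snd f _))
  have hl' : ∀ y, LocallyOfFinitePresentation ((j ≫ f).fiberToSpecResidueField y) := fun y =>
    inferInstanceAs (LocallyOfFinitePresentation (pullback.snd (j ≫ f) _))
  let u : (j ≫ f).fiber (f (j v)) ⟶ f.fiber (f (j v)) := fib j f (f (j v))
  have hu := isPullback_fib j f (f (j v))
  have : IsOpenImmersion u := MorphismProperty.of_isPullback hu inferInstance
  let w : (j ≫ f).fiber (f (j v)) := (j ≫ f).asFiber v
  have hw : f.fiberι (f (j v)) (u w) = j v :=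
    (congr($(hu.w) w)).symm.trans (congrArg j (Scheme.Hom.fiberι_asFiber (j ≫ f) v))
  have hcomp : u ≫ f.fiberToSpecResidueField (f (j v)) = (j ≫ f).fiberToSpecResidueField (f (j v)) :=
    pullback.lift_snd _ _ _
  rw [smPt_iff_of_fiberι (j ≫ f) v (f (j v)) w (Scheme.Hom.fiberι_asFiber (j ≫ f) v) rfl,
    smPt_iff_of_fiberι f (j v) (f (j v)) (u w) hw rfl, ← mem_smoothLocus_comp_iff u _ w]
  simp only [Scheme.Hom.mem_smoothLocus]
  rw [← hcomp]

/-- The locus where the fibre is smooth is locally constructible. -/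
theorem isLocallyConstructible_smPt (f : X ⟶ S) [LocallyOfFinitePresentation f] :
    IsLocallyConstructible {x : X | SmPt f x} := by
  refine isLocallyConstructible_pointLocus SmPt (fun hc x' => smPt_baseChange hc x')
    (fun j f _ _ v => smPt_comp_iff j f v) (fun {X S} f _ _ _ _ => ?_) f
  have heq : {x : X | SmPt f x} = (f.smoothLocus : Set X) := Set.ext fun x => by
    have : LocallyOfFinitePresentation (f.fiberToSpecResidueField (f x)) :=
      inferInstanceAs (LocallyOfFinitePresentation (pullback.snd f _))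
    exact ⟨fun h => (SmoothPt.mem_smoothLocus_iff f).2 ⟨Flat.stalkMap f x, h⟩,
      fun h _ => ((SmoothPt.mem_smoothLocus_iff f).1 h).2⟩
  rw [heq]
  exact ConstrSets.isConstructible_of_isOpen f.smoothLocus.2

end Groth.Agent.ConstrFib
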