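import Groth.Agent.ConstrFib.Descend

/-! # Local quasi-finiteness descends for morphisms locally of finite type -/

set_option autoImplicit false
universe u
open CategoryTheory Limits AlgebraicGeometry Topology
open Groth.Agent.LimSch

namespace Groth.Agent.ConstrFib

theorem descends_locallyQuasiFinite' :
    Descends.{u} @LocallyQuasiFinite @LocallyOfFiniteType := by
  intro I _ _ D c hc _ i _ X₀ f₀ _ _ h X q f hsq hf
  have : LocallyOfFiniteType f₀ := h
  have : CompactSpace X₀ := QuasiCompact.compactSpace_of_compactSpace f₀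
  have hp : ∀ x, f₀.QuasiFiniteAt (q x) := fun x =>
    quasiFiniteAt_of_isPullback hsq x (Scheme.Hom.quasiFiniteAt f x)
  let V := f₀.quasiFiniteLocus
  let o : Over i := Over.mk (𝟙 i)
  have : IsIso (pullback.snd (D.map o.hom) f₀) := by
    have : IsIso (D.map o.hom) := by dsimp [o]; infer_instance
    infer_instance
  have : CompactSpace ((bcDiag D i f₀).obj o) :=
    (Scheme.homeoOfIso (asIso (pullback.snd (D.map o.hom) f₀))).symm.compactSpace
  have hsq' : (bcCone D c i f₀ f q hsq.flip).π.app o ≫ (bcSnd D i f₀).app o = q :=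
    pullback.lift_snd _ _ _
  obtain ⟨l, e, he⟩ := exists_map_eq_top (bcDiag D i f₀) _ (isLimitBcCone D c i f₀ hc f q hsq.flip) (i := o)
    ((bcSnd D i f₀).app o ⁻¹ᵁ V) (by
      refine eq_top_iff.mpr fun x _ => ?_
      show f₀.QuasiFiniteAt (((bcCone D c i f₀ f q hsq.flip).π.app o ≫ (bcSnd D i f₀).app o) x)
      rw [hsq']
      exact hp x)
  refine ⟨l.left, l.hom, ?_⟩
  have hall : ∀ z, f₀.QuasiFiniteAt (pullback.fst f₀ (D.map l.hom) z) := by
    intro z
    have h1 : (pullbackSymmetry f₀ (D.map l.hom)).hom z ∈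
        (bcDiag D i f₀).map e ⁻¹ᵁ ((bcSnd D i f₀).app o ⁻¹ᵁ V) := by rw [he]; trivial
    have h2 : ((bcDiag D i f₀).map e) ≫ (bcSnd D i f₀).app o = pullback.snd _ _ := pullback.lift_snd _ _ _
    change f₀.QuasiFiniteAt (((bcDiag D i f₀).map e ≫ (bcSnd D i f₀).app o) ((pullbackSymmetry f₀ (D.map l.hom)).hom z)) at h1
    rw [h2] at h1
    exact congr($(pullbackSymmetry_hom_comp_snd f₀ (D.map l.hom)) z) ▸ h1
  have hV : LocallyQuasiFinite (V.ι ≫ f₀) := by
    rw [← Scheme.Hom.quasiFiniteLocus_eq_top_iff, Scheme.Hom.quasiFiniteLocus_comp,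
      Scheme.Opens.ι_preimage_self]
  let a : pullback f₀ (D.map l.hom) ⟶ (V : Scheme.{u}) :=
    IsOpenImmersion.lift V.ι (pullback.fst f₀ (D.map l.hom)) (by
      rintro _ ⟨z, rfl⟩
      rw [Scheme.Opens.range_ι]
      exact hall z)
  have ha : a ≫ V.ι = pullback.fst f₀ (D.map l.hom) := IsOpenImmersion.lift_fac _ _ _
  have hsq2 : IsPullback a (𝟙 _) V.ι (pullback.fst f₀ (D.map l.hom)) :=
    IsPullback.of_vert_isIso_mono ⟨by rw [ha, Category.id_comp]⟩
  have hp' := hsq2.paste_vert (IsPullback.of_hasPullback f₀ (D.map l.hom))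
  rw [Category.id_comp] at hp'
  exact MorphismProperty.of_isPullback hp' hV

end Groth.Agent.ConstrFib
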