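import Mathlib
import Groth.Agent.LimSch.DescendsCores
import Groth.Agent.IndQA.Basic
import Groth.Agent.GenLocus.Rel
import Groth.Agent.S2339
import Groth.Prelude.Def_Mor2

/-!
Quasi-affine morphisms: locality on the target, descent to a stage of a limit.
-/

set_option autoImplicit false
set_option backward.isDefEq.respectTransparency.types false
universe u

open CategoryTheory Limits AlgebraicGeometry TopologicalSpace

namespace Groth.Agent.ConstrFib

/-- quasi-affine morphisms, as a morphism property -/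
def QA : MorphismProperty Scheme.{u} := fun _ _ f => Mor2.IsQuasiAffine f

instance : QA.{u}.RespectsIso := by
  refine MorphismProperty.RespectsIso.mk _ (fun {X Y Z} e f hf => ?_) (fun {X Y Z} e f hf => ?_)
  · haveI := hf.1
    refine ⟨inferInstance, fun V hV => ?_⟩
    haveI := hf.2 V hV
    exact FpqcDescent.isQuasiAffine_of_iso
      ((Scheme.isoOfEq _ (Scheme.Hom.comp_preimage e.hom f V)).hom ≫ (e.hom ∣_ (f ⁻¹ᵁ V)))
  · haveI := hf.1
    refine ⟨inferInstance, fun V hV => ?_⟩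
    haveI := hf.2 (e.hom ⁻¹ᵁ V) (hV.preimage_of_isIso e.hom)
    exact FpqcDescent.isQuasiAffine_of_iso (Scheme.isoOfEq _ (Scheme.Hom.comp_preimage f e.hom V)).hom

instance : QA.{u}.IsStableUnderBaseChange := by
  refine MorphismProperty.IsStableUnderBaseChange.mk' fun X Y S f g _ hg => ?_
  show Mor2.IsQuasiAffine (pullback.fst f g)
  have h1 : Mor2.IsQuasiAffine (pullback.snd g f) := Groth.Agent.S2339.result g hg f
  haveI := h1.1
  have e : pullback.fst f g = (pullbackSymmetry f g).hom ≫ pullback.snd g f := (pullbackSymmetry_hom_comp_snd f g).symm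
  refine ⟨by rw [e]; infer_instance, fun V hV => ?_⟩
  haveI := h1.2 V hV
  have hp : pullback.fst f g ⁻¹ᵁ V = (pullbackSymmetry f g).hom ⁻¹ᵁ (pullback.snd g f ⁻¹ᵁ V) := by
    rw [← Scheme.Hom.comp_preimage, ← e]
  exact FpqcDescent.isQuasiAffine_of_iso
    ((Scheme.isoOfEq _ hp).hom ≫ ((pullbackSymmetry f g).hom ∣_ (pullback.snd g f ⁻¹ᵁ V)))

theorem qa_of_local {X Y : Scheme.{u}} (f : X ⟶ Y) {ι : Type*} (U : ι → Y.Opens) (hU : iSup U = ⊤)
    (h : ∀ i, QA (f ∣_ U i)) : QA f := by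
  have hqc : QuasiCompact f :=
    (IsZariskiLocalAtTarget.iff_of_iSup_eq_top (P := @QuasiCompact) U hU).2 fun i => (h i).1
  refine ⟨hqc, fun V hV => ?_⟩
  refine IndQA.quasiAffine_of_cover f hV le_rfl (f.isCompact_preimage hV.isCompact) fun y hy => ?_
  obtain ⟨i, hi⟩ := Opens.mem_iSup.1 (hU.ge (Opens.mem_top y))
  obtain ⟨r, hr, hyr⟩ := hV.exists_basicOpen_le (V := U i) ⟨y, hi⟩ hy
  refine ⟨r, hyr, fun U' hU' _ hU'c => ?_⟩
  refine IndQA.quasiAffine_of_le hU' hU'c ?_
  have hA : IsAffineOpen ((U i).ι ⁻¹ᵁ Y.basicOpen r) :=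
    (hV.basicOpen r).preimage_of_isOpenImmersion (U i).ι (hr.trans (U i).opensRange_ι.ge)
  haveI := (h i).2 _ hA
  have e1 : (U i).ι ''ᵁ ((U i).ι ⁻¹ᵁ Y.basicOpen r) = Y.basicOpen r := by
    rw [Scheme.Hom.image_preimage_eq_opensRange_inf, Scheme.Opens.opensRange_ι, inf_eq_right.2 hr]
  have e2 := image_morphismRestrict_preimage f (U i) ((U i).ι ⁻¹ᵁ Y.basicOpen r)
  rw [e1] at e2
  exact FpqcDescent.isQuasiAffine_of_iso
    ((Scheme.isoOfEq _ e2.symm).hom ≫ ((f ⁻¹ᵁ U i).ι.isoImage ((f ∣_ U i) ⁻¹ᵁ _)).inv)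

instance : IsZariskiLocalAtTarget QA.{u} :=
  .mk' (fun f U hf => GenLocus.morphismRestrict_isQuasiAffine f hf U) fun f _ U hU h => qa_of_local f U hU h

theorem qa_of_affine_target {X Y : Scheme.{u}} (f : X ⟶ Y) [IsAffine Y] [X.IsQuasiAffine] : QA f := by
  refine ⟨quasiCompact_of_compactSpace f, fun V hV => ?_⟩
  haveI : IsAffine V.toScheme := hV
  haveI : IsAffineHom V.ι := isAffineHom_of_isAffine _
  haveI : IsAffineHom (f ⁻¹ᵁ V).ι := MorphismProperty.of_isPullback (isPullback_morphismRestrict f V) inferInstance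
  exact Scheme.IsQuasiAffine.of_isAffineHom (f ⁻¹ᵁ V).ι

open LimSch in
theorem descendsAff_qa : DescendsAff.{u} QA ⊤ := by
  intro I _ _ D c hc _ _ i X₀ f₀ _ _ _ X q f hsq hf
  have : CompactSpace X₀ := QuasiCompact.compactSpace_of_compactSpace f₀
  have : QuasiSeparatedSpace X₀ := quasiSeparatedSpace_of_quasiSeparated f₀
  have := isAffine_pt D c hc i
  have : (bcCone D c i f₀ f q hsq.flip).pt.IsQuasiAffine :=
    haveI : (⊤ : X.Opens).toScheme.IsQuasiAffine := hf.2 ⊤ (isAffineOpen_top c.pt)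
    FpqcDescent.isQuasiAffine_of_iso (Scheme.topIso X).inv
  have : ∀ {j k : Over i} (a : j ⟶ k), IsAffineHom ((bcDiag D i f₀).map a) := fun a => inferInstance
  obtain ⟨j, hj⟩ := Scheme.exists_isQuasiAffine_of_isLimit (bcDiag D i f₀) _ (isLimitBcCone D c i f₀ hc f q hsq.flip)
  have : (pullback (D.map j.hom) f₀).IsQuasiAffine := hj
  have : (pullback f₀ (D.map j.hom)).IsQuasiAffine :=
    FpqcDescent.isQuasiAffine_of_iso (pullbackSymmetry f₀ (D.map j.hom)).hom
  exact ⟨j.left, j.hom, qa_of_affine_target _⟩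

theorem descends_qa : LimSch.Descends.{u} QA ⊤ := descendsAff_qa.descends

end Groth.Agent.ConstrFib
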